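import Cfsg.Agent.Lib.WeakCentral.Offender
import Cfsg.Agent.Lib.Transfer.Alperin
import Cfsg.Agent.Lib.Transfer.Fusion

/-!
A minimal pair of offenders, one fixing `T` and one moving it: the group they generate has a
unique maximal subgroup over a Sylow subgroup, and the normaliser of the first stabilises `T`.
-/

set_option autoImplicit false
set_option linter.unusedSectionVars false
set_option linter.style.haveILetI false

namespace CfsgLib.WeakCentral

open Subgroup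

variable {p : ℕ} {Γ : Type*} [Group Γ] {V : Type*} [AddCommGroup V] [DistribMulAction Γ V]
  [Finite Γ]

/-- The pointwise stabiliser of `T`. -/
def fixT (T : AddSubgroup V) : Subgroup Γ where
  carrier := {g | ∀ t ∈ T, g • t = t}
  one_mem' t _ := one_smul _ t
  mul_mem' {a b} ha hb t ht := by rw [mul_smul, hb t ht, ha t ht]
  inv_mem' {a} ha t ht := by
    nth_rewrite 1 [← ha t ht]
    rw [inv_smul_smul]

/-- The stabiliser of `T`. -/
def stabT (T : AddSubgroup V) : Subgroup Γ where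
  carrier := {g | (∀ t ∈ T, g • t ∈ T) ∧ ∀ t ∈ T, g⁻¹ • t ∈ T}
  one_mem' := ⟨fun t ht => by rwa [one_smul], fun t ht => by rwa [inv_one, one_smul]⟩
  mul_mem' {a b} ha hb := ⟨fun t ht => by rw [mul_smul]; exact ha.1 _ (hb.1 t ht),
    fun t ht => by rw [mul_inv_rev, mul_smul]; exact hb.2 _ (ha.2 t ht)⟩
  inv_mem' {a} ha := ⟨ha.2, fun t ht => by rw [inv_inv]; exact ha.1 t ht⟩

theorem fixT_le_stabT (T : AddSubgroup V) : (fixT T : Subgroup Γ) ≤ stabT T :=
  fun g hg => ⟨fun t ht => by rw [hg t ht]; exact ht,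
    fun t ht => by rw [show g⁻¹ • t = t from inv_mem hg t ht]; exact ht⟩

theorem conj_mem_fixT {T : AddSubgroup V} {d x : Γ} (hd : d ∈ stabT T) (hx : x ∈ fixT T) :
    d * x * d⁻¹ ∈ fixT T := fun t ht => by
  rw [mul_smul, mul_smul, hx _ (hd.2 t ht), smul_inv_smul]

variable (p V) in
/-- The subgroup generated by the offenders contained in `S`. -/
def wOff (S : Subgroup Γ) : Subgroup Γ := sSup {A | IsOff p V A ∧ A ≤ S}

theorem wOff_le (S : Subgroup Γ) : wOff p V S ≤ S := sSup_le fun _ h => h.2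

theorem le_wOff {A S : Subgroup Γ} (h : IsOff p V A) (hle : A ≤ S) : A ≤ wOff p V S :=
  le_sSup ⟨h, hle⟩

theorem map_wOff (g : Γ) (S : Subgroup Γ) :
    (wOff p V S).map (MulAut.conj g).toMonoidHom =
      wOff p V (S.map (MulAut.conj g).toMonoidHom) := by
  have key : ∀ (h : Γ) (X : Subgroup Γ),
      (wOff p V X).map (MulAut.conj h).toMonoidHom ≤ wOff p V (X.map (MulAut.conj h).toMonoidHom) :=
    fun h X => map_le_iff_le_comap.2 (sSup_le fun A hA =>
      map_le_iff_le_comap.1 (le_wOff (hA.1.conj h) (map_mono hA.2)))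
  have e : ∀ X : Subgroup Γ, (X.map (MulAut.conj g⁻¹).toMonoidHom).map (MulAut.conj g).toMonoidHom = X := by
    intro X
    rw [map_map]
    conv_rhs => rw [← map_id X]
    congr 1
    ext z
    simp [mul_assoc]
  have e' : (S.map (MulAut.conj g).toMonoidHom).map (MulAut.conj g⁻¹).toMonoidHom = S := by
    rw [map_map]
    conv_rhs => rw [← map_id S]
    congr 1
    ext z
    simp [mul_assoc]
  refine le_antisymm (key g S) ?_
  have h2 := key g⁻¹ (S.map (MulAut.conj g).toMonoidHom)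
  rw [e'] at h2
  have := map_mono (f := (MulAut.conj g).toMonoidHom) h2
  rwa [e] at this

theorem coe_smul_sylow [Fact p.Prime] (g : Γ) (S : Sylow p Γ) :
    ((g • S : Sylow p Γ) : Subgroup Γ) = (S : Subgroup Γ).map (MulAut.conj g).toMonoidHom := by
  ext x
  rw [CfsgLib.Transfer.mem_coe_smul_sylow_iff]
  constructor
  · exact fun h => ⟨_, h, by simp [mul_assoc]⟩
  · rintro ⟨y, hy, rfl⟩
    simpa [mul_assoc] using hy

theorem mem_normalizer_wOff {S : Subgroup Γ} {g : Γ}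
    (hg : g ∈ normalizer (S : Set Γ)) : g ∈ normalizer (wOff p V S : Set Γ) := by
  refine mem_normalizer_iff_map_conj_eq.2 ?_
  exact (map_wOff g S).trans (congrArg (wOff p V) (mem_normalizer_iff_map_conj_eq.1 hg))

theorem mem_normalizer_of_map_conj {X : Subgroup Γ} {c n : Γ}
    (h : n ∈ normalizer (X.map (MulAut.conj c).toMonoidHom : Set Γ)) :
    c⁻¹ * n * c ∈ normalizer (X : Set Γ) := by
  refine mem_normalizer_iff.2 fun y => ?_
  have e : ∀ z : Γ, c * z * c⁻¹ ∈ X.map (MulAut.conj c).toMonoidHom ↔ z ∈ X := fun z =>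
    ⟨fun ⟨w, hw, he⟩ => (MulAut.conj c).injective he ▸ hw, fun hz => ⟨z, hz, rfl⟩⟩
  rw [← e y, ← e (c⁻¹ * n * c * y * (c⁻¹ * n * c)⁻¹), mem_normalizer_iff.1 h (c * y * c⁻¹)]
  simp [mul_assoc]

variable (p) in
/-- The situation of the main lemma. -/
structure Cfg (R : Sylow p Γ) (T : AddSubgroup V) : Prop where
  hexp : ∀ v : V, ∃ n : ℕ, p ^ n • v = 0
  faith : ∀ g : Γ, (∀ v : V, g • v = v) → g = 1
  core : Cfsg.pCore p Γ = ⊥
  fixR : (R : Subgroup Γ) ≤ fixT T
  ne_top : (stabT T : Subgroup Γ) ≠ ⊤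
  uniq : ∀ X : Subgroup Γ, (R : Subgroup Γ) ≤ X → X ≠ ⊤ → X ≤ stabT T
  off : ∃ A ≤ (R : Subgroup Γ), IsOff p V A

variable [hp : Fact p.Prime] {R : Sylow p Γ} {T : AddSubgroup V}

theorem Cfg.normalizer_wOff_le (cf : Cfg p R T) :
    normalizer (wOff p V (R : Subgroup Γ) : Set Γ) ≤ stabT T := by
  refine cf.uniq _ (fun r hr => mem_normalizer_wOff (le_normalizer hr)) fun h => ?_
  haveI : (wOff p V (R : Subgroup Γ)).Normal := normalizer_eq_top_iff.1 h
  obtain ⟨A, hA, hoff⟩ := cf.off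
  have := (le_wOff hoff hA).trans (CfsgLib.Base.le_pCore (R.isPGroup'.to_le (wOff_le _)))
  rw [cf.core] at this
  exact hoff.ne (le_bot_iff.1 this)

/-- A `p`-subgroup fixing `T` lies in a Sylow subgroup fixing `T`, conjugate to `R` by such an
element. -/
theorem Cfg.exists_good (cf : Cfg p R T) {U : Subgroup Γ} (hU : IsPGroup p U) (hUF : U ≤ fixT T) :
    ∃ c ∈ (fixT T : Subgroup Γ), U ≤ ((c • R : Sylow p Γ) : Subgroup Γ) := by
  obtain ⟨S, hS⟩ := (hU.comap_of_injective (fixT T : Subgroup Γ).subtype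
    (fixT T : Subgroup Γ).subtype_injective).exists_le_sylow
  obtain ⟨c, hc⟩ := MulAction.exists_smul_eq (fixT T : Subgroup Γ) (R.subtype cf.fixR) S
  refine ⟨c, c.2, fun x hx => ?_⟩
  have h1 : (⟨x, hUF hx⟩ : (fixT T : Subgroup Γ)) ∈ ((c • R.subtype cf.fixR : Sylow p (fixT T : Subgroup Γ)) :
      Subgroup (fixT T : Subgroup Γ)) := by
    rw [hc]; exact hS hx
  rw [CfsgLib.Transfer.mem_coe_smul_sylow_iff] at h1 ⊢
  exact h1

theorem Cfg.good_of_wOff (cf : Cfg p R T) {S : Sylow p Γ}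
    (h : wOff p V (S : Subgroup Γ) ≤ fixT T) : (S : Subgroup Γ) ≤ fixT T := by
  obtain ⟨c, hc, hle⟩ := cf.exists_good (S.isPGroup'.to_le (wOff_le _)) h
  have h1 : wOff p V (S : Subgroup Γ) ≤ wOff p V ((c • R : Sylow p Γ) : Subgroup Γ) :=
    sSup_le fun A hA => le_wOff hA.1 ((le_wOff hA.1 hA.2).trans hle)
  obtain ⟨g, hg⟩ := MulAction.exists_smul_eq Γ S (c • R)
  have h2 : wOff p V (S : Subgroup Γ) = wOff p V ((c • R : Sylow p Γ) : Subgroup Γ) := by
    refine eq_of_le_of_card_ge h1 (le_of_eq ?_)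
    rw [← hg, coe_smul_sylow, ← map_wOff, card_map_of_injective (MulAut.conj g).injective]
  have hcM : c ∈ stabT T := fixT_le_stabT T hc
  have hN : (S : Subgroup Γ) ≤ stabT T := by
    intro s hs
    have h3 : s ∈ normalizer (wOff p V (S : Subgroup Γ) : Set Γ) :=
      mem_normalizer_wOff (le_normalizer hs)
    rw [h2, coe_smul_sylow, ← map_wOff] at h3
    have h4 : c⁻¹ * s * c ∈ normalizer (wOff p V (R : Subgroup Γ) : Set Γ) :=
      mem_normalizer_of_map_conj h3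
    have := mul_mem (mul_mem hcM (cf.normalizer_wOff_le h4)) (inv_mem hcM)
    rwa [show c * (c⁻¹ * s * c) * c⁻¹ = s by group] at this
  obtain ⟨S0, hS0⟩ : ∃ S0 : Sylow p (stabT T : Subgroup Γ), S0 = S.subtype hN := ⟨_, rfl⟩
  obtain ⟨d, hd⟩ := MulAction.exists_smul_eq (stabT T : Subgroup Γ)
    (R.subtype (cf.fixR.trans (fixT_le_stabT T))) S0
  intro s hs
  have h6 : (⟨s, hN hs⟩ : (stabT T : Subgroup Γ)) ∈ ((d • R.subtype (cf.fixR.trans (fixT_le_stabT T)) :
      Sylow p (stabT T : Subgroup Γ)) : Subgroup (stabT T : Subgroup Γ)) := by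
    rw [hd, hS0]; exact hs
  rw [CfsgLib.Transfer.mem_coe_smul_sylow_iff] at h6
  have h7 : (d : Γ)⁻¹ * s * d ∈ fixT T := cf.fixR h6
  have := conj_mem_fixT d.2 h7
  rwa [show (d : Γ) * ((d : Γ)⁻¹ * s * d) * (d : Γ)⁻¹ = s by group] at this

theorem Cfg.normalizer_good_le (cf : Cfg p R T) {S : Sylow p Γ} (hS : (S : Subgroup Γ) ≤ fixT T) :
    normalizer (((S : Subgroup Γ)) : Set Γ) ≤ stabT T := by
  obtain ⟨c, hc, hle⟩ := cf.exists_good S.isPGroup' hS
  have he : (S : Subgroup Γ) = ((c • R : Sylow p Γ) : Subgroup Γ) :=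
    eq_of_le_of_card_ge hle (le_of_eq (by rw [Sylow.card_eq_multiplicity, Sylow.card_eq_multiplicity]))
  intro n hn
  have hcM : c ∈ stabT T := fixT_le_stabT T hc
  rw [he, coe_smul_sylow] at hn
  have h4 : c⁻¹ * n * c ∈ normalizer ((R : Subgroup Γ) : Set Γ) :=
    mem_normalizer_of_map_conj hn
  have := mul_mem (mul_mem hcM (cf.normalizer_wOff_le (mem_normalizer_wOff h4))) (inv_mem hcM)
  rwa [show c * (c⁻¹ * n * c) * c⁻¹ = n by group] at this

theorem Cfg.exists_bad (cf : Cfg p R T) : ∃ S : Sylow p Γ, ¬ (S : Subgroup Γ) ≤ fixT T := by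
  by_contra hno
  push Not at hno
  haveI hn : (⨆ S : Sylow p Γ, (S : Subgroup Γ)).Normal := by
    refine normalizer_eq_top_iff.1 (eq_top_iff.2 fun g _ => mem_normalizer_iff_map_conj_eq.2 ?_)
    refine eq_of_le_of_card_ge ?_ (card_map_of_injective (MulAut.conj g).injective).ge
    rw [Subgroup.map_iSup]
    refine iSup_le fun S => ?_
    show (S : Subgroup Γ).map (MulAut.conj g).toMonoidHom ≤ _
    rw [← coe_smul_sylow]
    exact le_iSup (fun S : Sylow p Γ => (S : Subgroup Γ)) (g • S)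
  set N := ⨆ S : Sylow p Γ, (S : Subgroup Γ)
  have hNF : N ≤ fixT T := iSup_le hno
  have hRN : (R : Subgroup Γ) ≤ N := le_iSup (fun S : Sylow p Γ => (S : Subgroup Γ)) R
  have htop := Sylow.normalizer_sup_eq_top' R hRN
  have hRn : normalizer ((R : Subgroup Γ) : Set Γ) ≤ stabT T := fun n hn =>
    cf.normalizer_wOff_le (mem_normalizer_wOff hn)
  exact cf.ne_top (eq_top_iff.2 (htop ▸ sup_le hRn (hNF.trans (fixT_le_stabT T))))

/-- An offender of `S` outside `I` normalising it. -/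
theorem exists_off_normalizing {S I : Subgroup Γ} (hS : IsPGroup p S) (hI : I = wOff p V I)
    (hIS : I ≤ S) (hne : ¬ wOff p V S ≤ I) :
    ∃ A ≤ S, IsOff p V A ∧ ¬ A ≤ I ∧ A ≤ normalizer (I : Set Γ) := by
  by_contra hno
  push Not at hno
  have hsub : ∀ A ≤ S, IsOff p V A → A ≤ normalizer (I : Set Γ) → A ≤ I := fun A h1 h2 h3 => by
    by_contra h4; exact hno A h1 h2 h4 h3
  set N := S ⊓ normalizer (I : Set Γ) with hN
  rcases (inf_le_left : N ≤ S).eq_or_lt with hNS | hlt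
  · exact hne (sSup_le fun A hA => hsub A hA.2 hA.1 ((hA.2.trans hNS.ge).trans inf_le_right))
  · obtain ⟨g, hg, hgN⟩ := SetLike.exists_of_lt (CfsgLib.Transfer.lt_inf_normalizer hS hlt)
    refine hgN ⟨hg.1, mem_normalizer_iff_map_conj_eq.2
      (eq_of_le_of_card_ge ?_ (card_map_of_injective (MulAut.conj g).injective).ge)⟩
    conv_lhs => rw [hI]
    refine map_le_iff_le_comap.2 (sSup_le fun A hA => map_le_iff_le_comap.1 ?_)
    have hAN : A.map (MulAut.conj g).toMonoidHom ≤ N := by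
      exact (map_mono (le_inf (hA.2.trans hIS) (hA.2.trans le_normalizer))).trans
        (mem_normalizer_iff_map_conj_eq.1 hg.2).le
    exact hsub _ (hAN.trans inf_le_left) (hA.1.conj g) (hAN.trans inf_le_right)

/-- The pair. -/
theorem Cfg.exists_pair (cf : Cfg p R T) :
    ∃ (C K : Subgroup Γ) (Q : Sylow p K) (M : Subgroup K), IsOff p V C ∧ C ≤ K ∧
      C.subgroupOf K ≤ (Q : Subgroup K) ∧ (Q : Subgroup K).map K.subtype ≤ fixT T ∧
      ¬ K ≤ fixT T ∧ IsCoatom M ∧ (Q : Subgroup K) ≤ M ∧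
      (∀ M', IsCoatom M' → (Q : Subgroup K) ≤ M' → M' = M) ∧
      (∀ y : K, y ∉ M → C.subgroupOf K ⊔ (C.subgroupOf K).map (MulAut.conj y).toMonoidHom = ⊤) ∧
      ∀ n ∈ K, n ∈ normalizer (C : Set Γ) → n ∈ stabT T := by
  classical
  set F : Subgroup Γ := fixT T with hF
  let Good : Sylow p Γ → Prop := fun S => (S : Subgroup Γ) ≤ F
  let I : Sylow p Γ → Sylow p Γ → Subgroup Γ := fun S1 S2 =>
    wOff p V ((S1 : Subgroup Γ) ⊓ (S2 : Subgroup Γ))
  obtain ⟨S', hS'⟩ := cf.exists_bad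
  obtain ⟨⟨S1, S2⟩, ⟨hS1, hS2⟩, hmax⟩ := Set.exists_max_image
    {q : Sylow p Γ × Sylow p Γ | Good q.1 ∧ ¬ Good q.2} (fun q => Nat.card (I q.1 q.2))
    (Set.toFinite _) ⟨(R, S'), cf.fixR, hS'⟩
  set I0 := I S1 S2 with hI0
  have hI1 : I0 ≤ (S1 : Subgroup Γ) := (wOff_le _).trans inf_le_left
  have hI2 : I0 ≤ (S2 : Subgroup Γ) := (wOff_le _).trans inf_le_right
  have hI0F : I0 ≤ F := hI1.trans hS1
  have hIgen : I0 = wOff p V I0 :=
    le_antisymm (sSup_le fun A hA => le_wOff hA.1 (le_wOff hA.1 hA.2)) (wOff_le _)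
  -- a Sylow subgroup over `I0` and a further offender is on the side of that offender
  have hbig : ∀ (P P' : Sylow p Γ) (A : Subgroup Γ), IsOff p V A → I0 ⊔ A ≤ (P : Subgroup Γ) →
      I0 ⊔ A ≤ (P' : Subgroup Γ) → Good P → ¬ Good P' → A ≤ I0 := by
    intro P P' A hA h1 h2 h3 h4
    have hle : I0 ≤ I P P' := by
      rw [hIgen]
      exact sSup_le fun X hX => le_wOff hX.1
        (le_inf (hX.2.trans (le_sup_left.trans h1)) (hX.2.trans (le_sup_left.trans h2)))
    rw [eq_of_le_of_card_ge hle (hmax (P, P') ⟨h3, h4⟩)]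
    exact le_wOff hA (le_inf (le_sup_right.trans h1) (le_sup_right.trans h2))
  have hne1 : ¬ wOff p V (S1 : Subgroup Γ) ≤ I0 := fun h => by
    refine hS2 (cf.good_of_wOff ?_)
    obtain ⟨g, hg⟩ := MulAction.exists_smul_eq Γ S1 S2
    have h1 : wOff p V (S1 : Subgroup Γ) ≤ wOff p V (S2 : Subgroup Γ) :=
      sSup_le fun A hA => le_wOff hA.1 (((le_wOff hA.1 hA.2).trans h).trans hI2)
    rw [← eq_of_le_of_card_ge h1 (le_of_eq (by
      rw [← hg, coe_smul_sylow, ← map_wOff, card_map_of_injective (MulAut.conj g).injective]))]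
    exact (wOff_le _).trans hS1
  have hne2 : ¬ wOff p V (S2 : Subgroup Γ) ≤ I0 := fun h => hS2 (cf.good_of_wOff (h.trans hI0F))
  obtain ⟨A0, hA0S, hA0, hA0I, hA0N⟩ := exists_off_normalizing S1.isPGroup' hIgen hI1 hne1
  obtain ⟨B0, hB0S, hB0, hB0I, hB0N⟩ := exists_off_normalizing S2.isPGroup' hIgen hI2 hne2
  have hsupp : ∀ {U : Subgroup Γ}, IsPGroup p U → U ≤ normalizer (I0 : Set Γ) →
      IsPGroup p ↥(I0 ⊔ U) := fun hU hUN =>
    (S1.isPGroup'.to_le hI1).to_sup_of_normal_left' hU hUN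
  have hB0F : ¬ B0 ≤ F := fun h => by
    obtain ⟨c, hc, hle⟩ := cf.exists_good (hsupp hB0.isPGroup hB0N) (sup_le hI0F h)
    refine hB0I (hbig (c • R) S2 B0 hB0 hle (sup_le hI2 hB0S) ?_ hS2)
    show ((c • R : Sylow p Γ) : Subgroup Γ) ≤ F
    rw [coe_smul_sylow]
    rintro _ ⟨r, hr, rfl⟩
    exact mul_mem (mul_mem hc (cf.fixR hr)) (inv_mem hc)
  have hallgood : ∀ (A : Subgroup Γ), IsOff p V A → A ≤ normalizer (I0 : Set Γ) → A ≤ F → ¬ A ≤ I0 →
      ∀ P : Sylow p Γ, I0 ⊔ A ≤ (P : Subgroup Γ) → Good P := by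
    intro A hA hAN hAF hAI P hP
    by_contra hbad
    obtain ⟨c, hc, hle⟩ := cf.exists_good (hsupp hA.isPGroup hAN) (sup_le hI0F hAF)
    refine hAI (hbig (c • R) P A hA hle hP ?_ hbad)
    show ((c • R : Sylow p Γ) : Subgroup Γ) ≤ F
    rw [coe_smul_sylow]
    rintro _ ⟨r, hr, rfl⟩
    exact mul_mem (mul_mem hc (cf.fixR hr)) (inv_mem hc)
  obtain ⟨⟨C, B⟩, ⟨hC, hB, hCN, hBN, hCF, hCI, hBF⟩, hmin⟩ := Set.exists_min_image
    {q : Subgroup Γ × Subgroup Γ | IsOff p V q.1 ∧ IsOff p V q.2 ∧ q.1 ≤ normalizer (I0 : Set Γ) ∧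
      q.2 ≤ normalizer (I0 : Set Γ) ∧ q.1 ≤ F ∧ ¬ q.1 ≤ I0 ∧ ¬ q.2 ≤ F}
    (fun q => Nat.card ↥(q.1 ⊔ q.2)) (Set.toFinite _)
    ⟨(A0, B0), hA0, hB0, hA0N, hB0N, hA0S.trans hS1, hA0I, hB0F⟩
  set K := C ⊔ B with hK
  have hKN : K ≤ normalizer (I0 : Set Γ) := sup_le hCN hBN
  have hCK : C ≤ K := le_sup_left
  have hKF : ¬ K ≤ F := fun h => hBF (le_sup_right.trans h)
  set C' := C.subgroupOf K with hC'
  obtain ⟨Q, hQ⟩ := (hC.isPGroup.comap_of_injective K.subtype K.subtype_injective).exists_le_sylow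
  have hQp : IsPGroup p ((Q : Subgroup K).map K.subtype) := Q.isPGroup'.map K.subtype
  have hQF : (Q : Subgroup K).map K.subtype ≤ F := by
    obtain ⟨P, hP⟩ := (hsupp hQp ((map_subtype_le _).trans hKN)).exists_le_sylow
    refine le_trans (le_sup_right.trans hP) (hallgood C hC hCN hCF hCI P (sup_le (le_sup_left.trans hP) ?_))
    intro c hc
    exact hP (le_sup_right (a := I0) ⟨⟨c, hCK hc⟩, hQ hc, rfl⟩)
  -- offenders of `K` not in `I0`
  have hdich : ∀ D E : Subgroup Γ, IsOff p V D → IsOff p V E → D ≤ K → E ≤ K → ¬ D ≤ I0 → D ≤ F →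
      ¬ E ≤ F → D ⊔ E = K := by
    intro D E hD hE hDK hEK hDI hDF hEF
    exact eq_of_le_of_card_ge (sup_le hDK hEK)
      (hmin (D, E) ⟨hD, hE, hDK.trans hKN, hEK.trans hKN, hDF, hDI, hEF⟩)
  have hconjI : ∀ (D : Subgroup Γ) (k : Γ), k ∈ K → ¬ D ≤ I0 →
      ¬ D.map (MulAut.conj k).toMonoidHom ≤ I0 := by
    intro D k hk hD h
    refine hD fun x hx => ?_
    have := h ⟨x, hx, rfl⟩
    exact (mem_normalizer_iff.1 (hKN hk) x).2 this
  have hconjK : ∀ (D : Subgroup Γ) (k : Γ), k ∈ K → D ≤ K →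
      D.map (MulAut.conj k).toMonoidHom ≤ K := by
    rintro D k hk hD _ ⟨x, hx, rfl⟩
    exact mul_mem (mul_mem hk (hD hx)) (inv_mem hk)
  let GS : Set (Subgroup Γ) := {D | IsOff p V D ∧ D ≤ K ∧ ¬ D ≤ I0 ∧ D ≤ F}
  have hGSC : C ∈ GS := ⟨hC, hCK, hCI, hCF⟩
  let M0 : Submonoid K :=
    { carrier := {k | ∀ D ∈ GS, D.map (MulAut.conj (k : Γ)).toMonoidHom ∈ GS}
      one_mem' := fun D hD => by
        rwa [show (MulAut.conj ((1 : K) : Γ)).toMonoidHom = MonoidHom.id Γ from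
          MonoidHom.ext fun z => by simp, map_id]
      mul_mem' := fun {a b} ha hb D hD => by
        have := ha _ (hb D hD)
        rwa [map_map, ← show (MulAut.conj ((a * b : K) : Γ)).toMonoidHom =
          (MulAut.conj (a : Γ)).toMonoidHom.comp (MulAut.conj (b : Γ)).toMonoidHom from
          MonoidHom.ext fun z => by simp [mul_assoc]] at this }
  let M : Subgroup K :=
    { M0 with
      inv_mem' := fun {a} ha => by
        have hmem : a⁻¹ ∈ Submonoid.powers a :=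
          mem_powers_iff_mem_zpowers.2 (inv_mem (mem_zpowers a))
        obtain ⟨n, hn⟩ := (Submonoid.mem_powers_iff _ _).1 hmem
        exact hn ▸ pow_mem (show a ∈ M0 from ha) n }
  have hmemM : ∀ k : K, k ∈ M ↔ ∀ D ∈ GS, D.map (MulAut.conj (k : Γ)).toMonoidHom ∈ GS :=
    fun k => Iff.rfl
  -- a conjugate of `C` fixing `T` puts the element in `M`
  have hinM : ∀ k : K, C.map (MulAut.conj (k : Γ)).toMonoidHom ≤ F → k ∈ M := by
    intro k hk
    rw [hmemM]
    intro D ⟨hD, hDK, hDI, hDF⟩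
    refine ⟨hD.conj _, hconjK D k k.2 hDK, hconjI D k k.2 hDI, ?_⟩
    by_contra hbad
    have h1 := hdich _ _ (hC.conj k) (hD.conj k) (hconjK C k k.2 hCK) (hconjK D k k.2 hDK)
      (hconjI C k k.2 hCI) hk hbad
    rw [← Subgroup.map_sup] at h1
    have h2 : C ⊔ D = K := eq_of_le_of_card_ge (sup_le hCK hDK)
      (le_of_eq (by rw [← h1, card_map_of_injective (MulAut.conj (k : Γ)).injective]))
    exact hKF (h2 ▸ sup_le hCF hDF)
  have hproper : ∀ X : Subgroup K, C' ≤ X → X ≠ ⊤ → X ≤ M := by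
    intro X hX hXt k hk
    refine hinM k ?_
    by_contra hbad
    have h1 := hdich C _ hC (hC.conj k) hCK (hconjK C k k.2 hCK) hCI hCF hbad
    refine hXt (eq_top_iff.2 fun z _ => ?_)
    have h2 : K ≤ X.map K.subtype := by
      refine h1.ge.trans (sup_le (fun c hc => ⟨⟨c, hCK hc⟩, hX hc, rfl⟩) ?_)
      rintro _ ⟨c, hc, rfl⟩
      exact ⟨k * ⟨c, hCK hc⟩ * k⁻¹, mul_mem (mul_mem hk (hX hc)) (inv_mem hk), rfl⟩
    obtain ⟨w, hw, e⟩ := h2 z.2
    exact Subtype.ext e ▸ hw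
  have hQtop : (Q : Subgroup K) ≠ ⊤ := fun h => hKF (by
    rw [h, ← MonoidHom.range_eq_map, range_subtype] at hQF
    exact hQF)
  have hMtop : M ≠ ⊤ := by
    intro h
    obtain ⟨P, hP⟩ := (hB.isPGroup.comap_of_injective K.subtype K.subtype_injective).exists_le_sylow
    obtain ⟨k, hk⟩ := MulAction.exists_smul_eq K P Q
    have hBk : B.map (MulAut.conj (k : Γ)).toMonoidHom ≤ F := by
      rintro _ ⟨b, hb, rfl⟩
      refine hQF ⟨k * ⟨b, le_sup_right (a := C) hb⟩ * k⁻¹, ?_, rfl⟩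
      rw [← hk]
      refine CfsgLib.Transfer.mem_coe_smul_sylow_iff.2 ?_
      rw [show k⁻¹ * (k * ⟨b, le_sup_right (a := C) hb⟩ * k⁻¹) * k = (⟨b, le_sup_right (a := C) hb⟩ : K) by group]
      exact hP hb
    have h1 := (hmemM k⁻¹).1 (h ▸ mem_top _) _ ⟨hB.conj k, hconjK B k k.2 le_sup_right,
      hconjI B k k.2 (fun hBI => hBF (hBI.trans hI0F)), hBk⟩
    rw [map_map, show ((MulAut.conj ((k⁻¹ : K) : Γ)).toMonoidHom.comp (MulAut.conj (k : Γ)).toMonoidHom)
      = MonoidHom.id Γ from MonoidHom.ext fun z => by simp [mul_assoc], map_id] at h1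
    exact hBF h1.2.2.2
  have hQM : (Q : Subgroup K) ≤ M := hproper _ hQ hQtop
  have hMmax : IsCoatom M := ⟨hMtop, fun X hX => by
    by_contra hXt
    exact absurd (hproper X (hQ.trans (hQM.trans hX.le)) hXt) hX.not_ge⟩
  refine ⟨C, K, Q, M, hC, hCK, hQ, hQF, hKF, hMmax, hQM, fun M' hM' hQM' => ?_, fun y hy => ?_, ?_⟩
  · exact ((hM'.le_iff.1 (hproper M' (hQ.trans hQM') hM'.1)).resolve_left hMtop).symm
  · have hbad : ¬ C.map (MulAut.conj (y : Γ)).toMonoidHom ≤ F := fun h => hy (hinM y h)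
    have h1 := hdich C _ hC (hC.conj y) hCK (hconjK C y y.2 hCK) hCI hCF hbad
    refine map_injective K.subtype_injective ?_
    rw [Subgroup.map_sup, map_map, ← MonoidHom.range_eq_map, range_subtype,
      show K.subtype.comp (MulAut.conj y).toMonoidHom =
        (MulAut.conj (y : Γ)).toMonoidHom.comp K.subtype from MonoidHom.ext fun z => rfl,
      ← map_map, map_subgroupOf_eq_of_le hCK]
    exact h1
  · intro n hnK hn
    have hU : IsPGroup p ↥(I0 ⊔ C) := hsupp hC.isPGroup hCN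
    obtain ⟨c, hc, hle⟩ := cf.exists_good hU (sup_le hI0F hCF)
    set S4 := c • R
    have hS4 : Good S4 := hallgood C hC hCN hCF hCI S4 hle
    have hS5 : Good (n • S4) := by
      refine hallgood C hC hCN hCF hCI _ ?_
      rw [coe_smul_sylow]
      refine sup_le ?_ ?_
      · rw [← mem_normalizer_iff_map_conj_eq.1 (hKN hnK)]
        exact map_mono (le_sup_left.trans hle)
      · rw [← mem_normalizer_iff_map_conj_eq.1 hn]
        exact map_mono (le_sup_right.trans hle)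
    obtain ⟨f, hf, hfe⟩ := CfsgLib.Transfer.exists_smul_eq_of_le S4 (n • S4) hS4 hS5
    have h1 : f⁻¹ * n ∈ normalizer ((S4 : Subgroup Γ) : Set Γ) := by
      refine mem_normalizer_iff_map_conj_eq.2 ?_
      refine (coe_smul_sylow (f⁻¹ * n) S4).symm.trans ?_
      rw [mul_smul, ← hfe, inv_smul_smul]
    have := mul_mem (fixT_le_stabT T hf) (cf.normalizer_good_le hS4 h1)
    rwa [mul_inv_cancel_left] at this

end CfsgLib.WeakCentral
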