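import Cfsg.Agent.Lib.WeakCentral.Torus
import Cfsg.Agent.Lib.FpFailure.Main
import Cfsg.Agent.Lib.LocalEven.Factor.Setup
import Cfsg.Agent.Lib.LocalEven.PReduced2

/-!
A `p`-constrained group in which `N(J(M))` normalises the central subgroup `T` of the Sylow
subgroup `M` but the group does not: some element normalising `T` has transitive action on a
subgroup containing its commutators with `T`.
-/

set_option autoImplicit false
set_option linter.unusedSectionVars false
set_option linter.style.haveILetI false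
set_option maxHeartbeats 800000

namespace CfsgLib.WeakCentral

open Subgroup Cfsg CfsgLib.LocalEven
open scoped commutatorElement

universe u

variable {p : ℕ} [hp : Fact p.Prime] {L : Type u} [Group L] [Finite L]

theorem group_core (hp2 : p ≠ 2) (M : Sylow p L) (T : Subgroup L) (hTM : T ≤ (M : Subgroup L))
    (hTc : T ≤ centralizer ((M : Subgroup L) : Set L))
    (hcon : centralizer (pCore p L : Set L) ≤ pCore p L)
    (hJ : normalizer (thompsonSubgroupAOf (M : Subgroup L) : Set L) ≤ normalizer (T : Set L))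
    (hn : ¬ T.Normal) :
    ∃ h ∈ normalizer (T : Set L), ∃ T0 : Subgroup L,
      (∃ m : ℕ, m.Coprime p ∧ ∀ t ∈ T, h ^ m * t * (h ^ m)⁻¹ = t) ∧ (∃ t ∈ T, h * t * h⁻¹ ≠ t) ∧
      (∀ t ∈ T, h * t * h⁻¹ * t⁻¹ ∈ T0) ∧
      ∀ a ∈ T0, ∀ b ∈ T0, a ≠ 1 → b ≠ 1 → ∃ i : ℕ, h ^ i * a * (h ^ i)⁻¹ = b := by
  classical
  set NT := normalizer (T : Set L) with hNT
  obtain ⟨H, ⟨hMH, hHNT⟩, hmin⟩ := Set.exists_min_image
    {H : Subgroup L | (M : Subgroup L) ≤ H ∧ ¬ H ≤ NT} (fun H => Nat.card H) (Set.toFinite _)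
    ⟨⊤, le_top, fun h => hn (normalizer_eq_top_iff.1 (top_le_iff.1 h))⟩
  have hminH : ∀ Y : Subgroup L, (M : Subgroup L) ≤ Y → Y ≤ H → Y ≠ H → Y ≤ NT := fun Y h1 h2 h3 => by
    by_contra h4
    exact h3 (eq_of_le_of_card_ge h2 (hmin Y ⟨h1, h4⟩))
  -- the module
  have hTQ : T ≤ pCore p L :=
    (hTc.trans (centralizer_le (CfsgLib.Base.pCore_le_sylow M))).trans hcon
  have hQM : pCore p L ≤ (M : Subgroup L) := CfsgLib.Base.pCore_le_sylow M
  set V := ⨆ h : H, T.map (MulAut.conj (h : L)).toMonoidHom with hVdef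
  have hTV : T ≤ V := le_iSup_of_le (1 : H) (fun t ht => ⟨t, ht, by simp⟩)
  have hVQ : V ≤ pCore p L := iSup_le fun h => by
    rintro _ ⟨t, ht, rfl⟩
    exact (inferInstance : (pCore p L).Normal).conj_mem t (hTQ ht) h
  have hVcQ : V ≤ centralizer (pCore p L : Set L) := iSup_le fun h => by
    rintro _ ⟨t, ht, rfl⟩ q hq
    have h1 : (h : L)⁻¹ * q * h ∈ pCore p L := by
      simpa using (inferInstance : (pCore p L).Normal).conj_mem q hq (h : L)⁻¹
    have h2 := hTc ht _ (hQM h1)
    show q * ((h : L) * t * (h : L)⁻¹) = (h : L) * t * (h : L)⁻¹ * q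
    calc q * ((h : L) * t * (h : L)⁻¹) = (h : L) * (((h : L)⁻¹ * q * h) * t) * (h : L)⁻¹ := by group
      _ = (h : L) * (t * ((h : L)⁻¹ * q * h)) * (h : L)⁻¹ := by rw [h2]
      _ = _ := by group
  have hVM : V ≤ (M : Subgroup L) := hVQ.trans hQM
  have hVab : IsMulCommutative V := isMulCommutative_of_le_centralizer
    (hVcQ.trans (centralizer_le hVQ))
  have hHV : H ≤ normalizer (V : Set L) := by
    intro g hg
    refine mem_normalizer_iff_map_conj_eq.2 (eq_of_le_of_card_ge ?_
      (card_map_of_injective (MulAut.conj g).injective).ge)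
    show V.map (MulAut.conj g).toMonoidHom ≤ V
    rw [hVdef, Subgroup.map_iSup]
    refine iSup_le fun h => ?_
    rw [map_map]
    refine le_iSup_of_le (⟨g, hg⟩ * h) (le_of_eq ?_)
    congr 1
    exact MonoidHom.ext fun z => by simp [mul_assoc]
  letI : CommGroup V :=
    { (inferInstance : Group V) with mul_comm := fun a b => hVab.is_comm.comm a b }
  set φ : H →* MulAut V := V.normalizerMonoidHom.comp (inclusion hHV) with hφdef
  have hφ : ∀ (g : H) (v : V), ((φ g v : V) : L) = (g : L) * v * (g : L)⁻¹ := fun g v => rfl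
  letI : DistribMulAction φ.range (Additive V) :=
    { smul := fun g v => Additive.ofMul ((g : MulAut V) v.toMul)
      one_smul := fun v => rfl
      mul_smul := fun g h v => rfl
      smul_zero := fun g => congrArg Additive.ofMul (map_one (g : MulAut V))
      smul_add := fun g v w => congrArg Additive.ofMul (map_mul (g : MulAut V) v.toMul w.toMul) }
  have hact : ∀ (g : H) (v : Additive V),
      (((φ.rangeRestrict g • v : Additive V).toMul : V) : L) = (g : L) * (v.toMul : V) * (g : L)⁻¹ :=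
    fun g v => rfl
  have hker : ∀ g : H, g ∈ φ.ker ↔ (g : L) ∈ centralizer (V : Set L) := fun g => by
    rw [MonoidHom.mem_ker, mem_centralizer_iff]
    constructor
    · intro h v hv
      have h1 : ((φ g ⟨v, hv⟩ : V) : L) = v := by rw [h]; rfl
      rw [hφ, mul_inv_eq_iff_eq_mul] at h1
      exact h1.symm
    · intro h
      refine MulEquiv.ext fun v => Subtype.ext ?_
      rw [hφ, ← h v v.2, mul_inv_cancel_right]
      rfl
  let T' : AddSubgroup (Additive V) :=
    { carrier := {v | ((v.toMul : V) : L) ∈ T}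
      zero_mem' := T.one_mem
      add_mem' := fun ha hb => T.mul_mem ha hb
      neg_mem' := fun ha => T.inv_mem ha }
  have hT' : ∀ v, v ∈ T' ↔ ((v.toMul : V) : L) ∈ T := fun v => Iff.rfl
  have hpV : ∀ v : Additive V, ∃ n : ℕ, p ^ n • v = 0 := fun v => by
    obtain ⟨n, hn⟩ := (M.isPGroup'.to_le hVM) v.toMul
    exact ⟨n, congrArg Additive.ofMul hn⟩
  set R : Sylow p φ.range := (M.subtype hMH).mapSurjective φ.rangeRestrict_surjective with hRdef
  have hRmem : ∀ r ∈ (R : Subgroup φ.range), ∃ m : H, (m : L) ∈ (M : Subgroup L) ∧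
      φ.rangeRestrict m = r := by
    intro r hr
    obtain ⟨m, hm, rfl⟩ := hr
    exact ⟨m, hm, rfl⟩
  have hfixR : (R : Subgroup φ.range) ≤ fixT T' := by
    intro r hr v hv
    obtain ⟨m, hm, rfl⟩ := hRmem r hr
    refine Additive.toMul.injective (Subtype.ext ?_)
    rw [hact]
    exact mul_inv_eq_iff_eq_mul.2 (hTc hv _ hm)
  have hstab : ∀ g : H, φ.rangeRestrict g ∈ stabT T' ↔ (g : L) ∈ NT := by
    intro g
    constructor
    · intro h
      refine mem_normalizer_iff_map_conj_eq.2 (eq_of_le_of_card_ge ?_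
        (card_map_of_injective (MulAut.conj (g : L)).injective).ge)
      rintro _ ⟨t, ht, rfl⟩
      have := h.1 (Additive.ofMul ⟨t, hTV ht⟩) ht
      rwa [hT', hact] at this
    · intro h
      refine ⟨fun v hv => ?_, fun v hv => ?_⟩
      · rw [hT', hact]
        exact (mem_normalizer_iff.1 h _).1 hv
      · rw [← map_inv, hT', hact]
        exact (mem_normalizer_iff.1 (inv_mem h) _).1 hv
  have hne : (stabT T' : Subgroup φ.range) ≠ ⊤ := fun h => hHNT fun g hg =>
    (hstab ⟨g, hg⟩).1 (h ▸ Subgroup.mem_top _)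
  have huniq : ∀ X : Subgroup φ.range, (R : Subgroup φ.range) ≤ X → X ≠ ⊤ → X ≤ stabT T' := by
    intro X hRX hX x hx
    obtain ⟨g, rfl⟩ := φ.rangeRestrict_surjective x
    set Y := (X.comap φ.rangeRestrict).map H.subtype with hY
    refine (hstab g).2 (hminH Y (fun m hm => ⟨⟨m, hMH hm⟩, hRX ⟨⟨m, hMH hm⟩, hm, rfl⟩, rfl⟩)
      (map_subtype_le _) (fun e => hX ?_) ⟨g, hx, rfl⟩)
    have h1 : X.comap φ.rangeRestrict = ⊤ := map_injective H.subtype_injective
      (by rw [← MonoidHom.range_eq_map, range_subtype]; exact e)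
    rw [eq_top_iff]
    intro y _
    obtain ⟨k, rfl⟩ := φ.rangeRestrict_surjective y
    have : k ∈ X.comap φ.rangeRestrict := h1 ▸ Subgroup.mem_top k
    exact this
  have hfaith : ∀ g : φ.range, (∀ v : Additive V, g • v = v) → g = 1 := fun g hg =>
    Subtype.ext (MulEquiv.ext fun v => congrArg Additive.toMul (hg (Additive.ofMul v)))
  have hcore : pCore p φ.range = ⊥ := by
    set K1 := (pCore p φ.range).comap φ.rangeRestrict with hK1
    rw [eq_bot_iff]
    intro y hy
    obtain ⟨k, rfl⟩ := φ.rangeRestrict_surjective y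
    have hfix : ∀ x ∈ K1, ∀ t ∈ T, (x : L) * t * (x : L)⁻¹ = t := by
      intro x hx t ht
      obtain ⟨m, hm, hme⟩ := hRmem _ (CfsgLib.Base.pCore_le_sylow R hx)
      have h1 : m⁻¹ * x ∈ φ.ker := by
        rw [← φ.ker_rangeRestrict, MonoidHom.mem_ker, map_mul, map_inv, hme, inv_mul_cancel]
      have h2 := (hker _).1 h1 t (hTV ht)
      rw [Subgroup.coe_mul, Subgroup.coe_inv] at h2
      have h3 := hTc ht m hm
      calc (x : L) * t * (x : L)⁻¹
          = (m : L) * (((m : L)⁻¹ * x) * t) * (x : L)⁻¹ := by group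
        _ = (m : L) * (t * ((m : L)⁻¹ * x)) * (x : L)⁻¹ := by rw [h2]
        _ = (m : L) * t * (m : L)⁻¹ := by group
        _ = t := by rw [mul_inv_eq_iff_eq_mul, h3]
    refine Subgroup.mem_bot.2 (hfaith _ fun v => Additive.toMul.injective (Subtype.ext ?_))
    rw [hact]
    have hle : V ≤ centralizer ({(k : L)} : Set L) := by
      refine iSup_le fun h => ?_
      rintro _ ⟨t, ht, rfl⟩
      rw [mem_centralizer_singleton_iff]
      have hk' : h⁻¹ * k * h ∈ K1 := by
        show φ.rangeRestrict (h⁻¹ * k * h) ∈ pCore p φ.range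
        rw [map_mul, map_mul, map_inv]
        simpa using (inferInstance : (pCore p φ.range).Normal).conj_mem _ hy (φ.rangeRestrict h)⁻¹
      have h1 := mul_inv_eq_iff_eq_mul.1 (hfix _ hk' t ht)
      simp only [Subgroup.coe_mul, Subgroup.coe_inv] at h1
      show (h : L) * t * (h : L)⁻¹ * (k : L) = (k : L) * ((h : L) * t * (h : L)⁻¹)
      calc (h : L) * t * (h : L)⁻¹ * (k : L)
          = (h : L) * (t * ((h : L)⁻¹ * k * h)) * (h : L)⁻¹ := by group
        _ = (h : L) * (((h : L)⁻¹ * k * h) * t) * (h : L)⁻¹ := by rw [h1]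
        _ = _ := by group
    exact mul_inv_eq_iff_eq_mul.2 (mem_centralizer_singleton_iff.1 (hle v.toMul.2)).symm
  have hf1 : ∀ g : φ.range, (∀ v : ptor p (Additive V), g • v = v) → g = 1 := fun g hg =>
    faithful_ptor hpV hfaith hcore hg
  -- an offender
  set W := (M : Subgroup L) ⊓ centralizer (V : Set L) with hWdef
  have hnot : ∃ A ∈ maxAb (M : Subgroup L), ¬ A ≤ W := by
    by_contra hno
    push Not at hno
    refine hHNT ?_
    have hjW : jAb W = jAb (M : Subgroup L) := CfsgLib.FpFailure.jAb_eq_of_all_le inf_le_left hno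
    set C := H ⊓ centralizer (V : Set L) with hC
    have hCn : H ≤ normalizer (C : Set L) := fun g hg => by
      refine mem_normalizer_iff_map_conj_eq.2 (eq_of_le_of_card_ge ?_
        (card_map_of_injective (MulAut.conj g).injective).ge)
      rintro _ ⟨c, hc, rfl⟩
      refine ⟨H.mul_mem (H.mul_mem hg hc.1) (H.inv_mem hg), ?_⟩
      have h1 : (⟨g, hg⟩ * ⟨c, hc.1⟩ * ⟨g, hg⟩⁻¹ : H) ∈ φ.ker :=
        φ.normal_ker.conj_mem _ ((hker ⟨c, hc.1⟩).2 hc.2) _
      exact (hker _).1 h1
    intro g hg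
    obtain ⟨n, hn', c, hc, rfl⟩ := CfsgLib.LocalEven.exists_frattini_factor M hMH inf_le_left hCn hg
    have e : (M : Subgroup L) ⊓ C = W := by
      rw [hC, hWdef, ← inf_assoc, inf_eq_left.2 hMH]
    refine mul_mem (hJ ?_) ?_
    · rw [thompsonSubgroupAOf_eq_jAb, ← hjW, ← e]
      exact normalizer_le_normalizer_jAb _ hn'.2
    · refine mem_normalizer_iff_map_conj_eq.2 (eq_of_le_of_card_ge ?_
        (card_map_of_injective (MulAut.conj c).injective).ge)
      rintro _ ⟨t, ht, rfl⟩
      have h2 := hc.2 t (hTV ht)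
      show c * t * c⁻¹ ∈ T
      rwa [← h2, mul_inv_cancel_right]
  obtain ⟨A, hA, hAW, hAquad⟩ := CfsgLib.FpFailure.exists_quadratic_member hp2 M.isPGroup'
    (B := V) (W := W) (le_inf hVM (le_centralizer_iff.1 (le_centralizer_iff.1
      (hVcQ.trans (centralizer_le hVQ))))) inf_le_left (hMH.trans hHV) hnot
    (fun A hA hAW => CfsgLib.FpFailure.le_of_centralizes hA hVab hVM (hAW.trans inf_le_right))
    (fun A _ => (commutator_eq_bot_iff_le_centralizer.2 (hVcQ.trans (centralizer_le hVQ))).le.trans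
      bot_le)
  obtain ⟨hAM, hAc, hAmax⟩ := mem_maxAb.1 hA
  set Ab := (A.subgroupOf H).map φ.rangeRestrict with hAb
  have hAbR : Ab ≤ (R : Subgroup φ.range) := map_mono fun a ha => hAM ha
  have hoff : ∃ B ≤ (R : Subgroup φ.range), IsOff p (Additive V) B := by
    suffices h : ∃ B ≤ Ab, IsOff p (Additive V) B by
      obtain ⟨B, hB, hBo⟩ := h
      exact ⟨B, hB.trans hAbR, hBo⟩
    refine exists_off hf1 ?_ ?_ ?_ ?_
    · intro e
      refine hAW (le_inf hAM fun a ha => ?_)
      refine (hker ⟨a, hMH (hAM ha)⟩).1 ?_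
      rw [← φ.ker_rangeRestrict, MonoidHom.mem_ker, ← Subgroup.mem_bot, ← e]
      exact ⟨⟨a, hMH (hAM ha)⟩, ha, rfl⟩
    · rintro _ ⟨a, ha, rfl⟩ _ ⟨b, hb, rfl⟩
      rw [← map_mul, ← map_mul]
      exact congrArg _ (Subtype.ext (CfsgLib.PLocal.comm_of_mem hAc ha hb))
    · rintro _ ⟨a, ha, rfl⟩ _ ⟨b, hb, rfl⟩ n
      refine Subtype.ext (Additive.toMul.injective (Subtype.ext ?_))
      rw [coe_smul, hact, AddSubgroupClass.coe_sub, coe_smul, toMul_sub, Subgroup.coe_div, hact,
        div_eq_mul_inv]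
      set v : L := ((n : Additive V).toMul : L) with hv
      have hcm : (a : L) * v * (a : L)⁻¹ * v⁻¹ ∈ ⁅V, A⁆ := by
        rw [Subgroup.commutator_comm]
        exact commutator_mem_commutator ha ((n : Additive V).toMul).2
      have h1 := (commutator_eq_bot_iff_le_centralizer.1 hAquad) hcm (b : L) hb
      exact mul_inv_eq_iff_eq_mul.2 h1
    · -- counting
      set Om := (V.subtype.comp ((AddSubgroup.toSubgroup' (ptor p (Additive V))).subtype)).range with hOm
      have hOmc : Nat.card Om = Nat.card (ptor p (Additive V)) := by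
        rw [hOm]
        refine (Nat.card_congr (MonoidHom.ofInjective ?_).toEquiv).symm
        exact fun x y e => Subtype.ext (Subtype.ext e)
      have hOmV : Om ≤ V := by
        rintro _ ⟨v, rfl⟩
        exact (v : V).2
      set D := A ⊓ centralizer (V : Set L) with hD
      have hDc : D ≤ centralizer (Om : Set L) := inf_le_right.trans (centralizer_le hOmV)
      have hcard1 : Nat.card ↥(D ⊔ Om) ≤ Nat.card A :=
        hAmax _ (sup_le (inf_le_left.trans hAM) (hOmV.trans hVM))
          (isMulCommutative_sup (isMulCommutative_of_le_centralizer (inf_le_left.trans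
            (fun x hx y hy => CfsgLib.PLocal.comm_of_mem hAc hy.1 hx)))
            (isMulCommutative_of_le_centralizer (hOmV.trans ((hVcQ.trans (centralizer_le hVQ)).trans
              (centralizer_le hOmV)))) hDc)
      have hcard2 := CfsgLib.LocalEven.TwoFactor.card_sup_mul (H := D) (K := Om)
        (hDc.trans (centralizer_le_normalizer _))
      have hcard3 : Nat.card A = Nat.card Ab * Nat.card D := by
        have hAH : A ≤ H := hAM.trans hMH
        set f := φ.rangeRestrict.comp (inclusion hAH) with hf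
        have hr : f.range = Ab := by
          ext r
          constructor
          · rintro ⟨a, rfl⟩
            exact ⟨inclusion hAH a, a.2, rfl⟩
          · rintro ⟨a, ha, rfl⟩
            exact ⟨⟨a, ha⟩, rfl⟩
        have hk : f.ker.map A.subtype = D := by
          ext x
          constructor
          · rintro ⟨a, ha, rfl⟩
            refine ⟨a.2, (hker (inclusion hAH a)).1 ?_⟩
            rw [← φ.ker_rangeRestrict]
            exact ha
          · intro hx
            refine ⟨⟨x, hx.1⟩, ?_, rfl⟩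
            show inclusion hAH ⟨x, hx.1⟩ ∈ φ.rangeRestrict.ker
            rw [φ.ker_rangeRestrict, hker]
            exact hx.2
        rw [← hr, ← hk, card_map_of_injective A.subtype_injective, ← Subgroup.index_ker,
          mul_comm, Subgroup.card_mul_index]
      have hcard4 : Nat.card ↥(D ⊓ Om) ≤
          Nat.card {n : ptor p (Additive V) // ∀ a ∈ Ab, a • n = n} := by
        refine Nat.card_le_card_of_injective
          (fun x => ⟨⟨Additive.ofMul ⟨x.1, hOmV x.2.2⟩, ?_⟩, ?_⟩) ?_
        · obtain ⟨v, hv⟩ := x.2.2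
          have : (⟨x.1, hOmV x.2.2⟩ : V) = v := Subtype.ext hv.symm
          rw [this]
          exact v.2
        · rintro _ ⟨a, ha, rfl⟩
          refine Subtype.ext (Additive.toMul.injective (Subtype.ext ?_))
          rw [coe_smul, hact]
          exact mul_inv_eq_iff_eq_mul.2 (CfsgLib.PLocal.comm_of_mem hAc ha x.2.1.1)
        · intro x y hxy
          have h1 : Additive.ofMul (⟨x.1, hOmV x.2.2⟩ : V) = Additive.ofMul ⟨y.1, hOmV y.2.2⟩ :=
            congrArg Subtype.val (congrArg Subtype.val hxy)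
          exact Subtype.ext (congrArg (fun z : V => (z : L)) (Additive.ofMul.injective h1))
      rw [msr, ← hOmc]
      refine le_trans ?_ (Nat.mul_le_mul le_rfl hcard4)
      have h5 : Nat.card D * Nat.card Om ≤ Nat.card D * (Nat.card Ab * Nat.card ↥(D ⊓ Om)) := by
        rw [← hcard2, ← mul_assoc, mul_comm (Nat.card D) (Nat.card Ab), ← hcard3]
        exact Nat.mul_le_mul hcard1 le_rfl
      exact Nat.le_of_mul_le_mul_left h5 Nat.card_pos
  have cf : Cfg p R T' := ⟨hpV, hfaith, hcore, hfixR, hne, huniq, hoff⟩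
  obtain ⟨h0, hh0, hcop, ⟨t, ht, hmove⟩, T0, hT0, htr⟩ := cf.exists_torus hp2
  obtain ⟨h, rfl⟩ := φ.rangeRestrict_surjective h0
  refine ⟨h, (hstab h).1 hh0, (AddSubgroup.toSubgroup' T0).map V.subtype, ?_, ?_, ?_, ?_⟩
  · refine ⟨orderOf (φ.rangeRestrict h), hcop, fun t ht => ?_⟩
    have h1 := hact (h ^ orderOf (φ.rangeRestrict h)) (Additive.ofMul ⟨t, hTV ht⟩)
    rw [map_pow, pow_orderOf_eq_one, one_smul, SubgroupClass.coe_pow] at h1
    exact h1.symm
  · refine ⟨_, ht, fun e => hmove (Additive.toMul.injective (Subtype.ext ?_))⟩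
    rw [hact]
    exact e
  · intro t ht
    refine ⟨(φ.rangeRestrict h • Additive.ofMul (⟨t, hTV ht⟩ : V) - Additive.ofMul (⟨t, hTV ht⟩ : V)).toMul,
      hT0 _ ht, ?_⟩
    rw [toMul_sub, coe_subtype, Subgroup.coe_div, hact, div_eq_mul_inv]
    rfl
  · rintro _ ⟨a, ha, rfl⟩ _ ⟨b, hb, rfl⟩ ha1 hb1
    obtain ⟨i, hi⟩ := htr (Additive.ofMul a) ha (Additive.ofMul b) hb
      (fun e => ha1 (by rw [show a = 1 from congrArg Additive.toMul e]; rfl))
      (fun e => hb1 (by rw [show b = 1 from congrArg Additive.toMul e]; rfl))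
    refine ⟨i, ?_⟩
    have h1 := hact (h ^ i) (Additive.ofMul a)
    rw [map_pow, hi, SubgroupClass.coe_pow] at h1
    exact h1.symm

end CfsgLib.WeakCentral
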