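import Mathlib
import Cfsg.Agent.Lib.Base.Cores

/-!
Minimal quadratic offenders of a group acting on the elements of order dividing `p` of an abelian
`p`-group.
-/

set_option autoImplicit false
set_option linter.unusedSectionVars false
set_option linter.style.haveILetI false

namespace CfsgLib.WeakCentral

open Subgroup

variable {p : ℕ} {Γ : Type*} [Group Γ] {V : Type*} [AddCommGroup V] [DistribMulAction Γ V]

variable (p V) in
/-- The elements killed by `p`. -/
def ptor : AddSubgroup V := (nsmulAddMonoidHom p : V →+ V).ker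

theorem mem_ptor {v : V} : v ∈ ptor p V ↔ p • v = 0 := Iff.rfl

theorem nsmul_smul' (g : Γ) (n : ℕ) (v : V) : g • (n • v) = n • (g • v) :=
  map_nsmul (DistribSMul.toAddMonoidHom V g) n v

theorem smul_mem_ptor (g : Γ) {v : V} (h : v ∈ ptor p V) : g • v ∈ ptor p V := by
  rw [mem_ptor] at h ⊢
  rw [← nsmul_smul', h, smul_zero]

instance : DistribMulAction Γ (ptor p V) where
  smul g v := ⟨g • (v : V), smul_mem_ptor g v.2⟩
  one_smul v := Subtype.ext (one_smul Γ (v : V))
  mul_smul g h v := Subtype.ext (mul_smul g h (v : V))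
  smul_zero g := Subtype.ext (smul_zero g)
  smul_add g v w := Subtype.ext (smul_add g (v : V) w)

theorem coe_smul (g : Γ) (v : ptor p V) : ((g • v : ptor p V) : V) = g • (v : V) := rfl

/-- Powers of an element moving `v` by a fixed vector. -/
theorem pow_smul_eq {g : Γ} {v d : V} (h1 : g • v = v + d) (h2 : g • d = d) (n : ℕ) :
    g ^ n • v = v + n • d := by
  induction n with
  | zero => simp
  | succ n ih =>
    rw [pow_succ', mul_smul, ih, smul_add, nsmul_smul', h2, h1, succ_nsmul]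
    abel

theorem eq_zero_of_coprime [Fact p.Prime] {d : V} {n : ℕ} (hn : n.Coprime p) (h1 : n • d = 0)
    (h2 : p • d = 0) : d = 0 := by
  have ha : addOrderOf d ∣ n := addOrderOf_dvd_of_nsmul_eq_zero h1
  have hb : addOrderOf d ∣ p := addOrderOf_dvd_of_nsmul_eq_zero h2
  exact AddMonoid.addOrderOf_eq_one_iff.1 (Nat.eq_one_of_dvd_coprimes hn ha hb)

/-- An element of order prime to `p` fixing the elements of order `p` fixes everything. -/
theorem fix_of_fix_ptor [Fact p.Prime] (hexp : ∀ v : V, ∃ n : ℕ, p ^ n • v = 0) {g : Γ} {n : ℕ}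
    (hgn : g ^ n = 1) (hn : n.Coprime p) (h : ∀ v ∈ ptor p V, g • v = v) (v : V) : g • v = v := by
  obtain ⟨k, hk⟩ := hexp v
  induction k generalizing v with
  | zero => rw [pow_zero, one_nsmul] at hk; rw [hk, smul_zero]
  | succ k ih =>
    have h1 : g • (p • v) = p • v := ih (p • v) (by rw [← mul_nsmul', ← pow_succ, hk])
    have hd : p • (g • v - v) = 0 := by rw [nsmul_sub, ← nsmul_smul', h1, sub_self]
    have h2 := pow_smul_eq (show g • v = v + (g • v - v) by abel) (h _ (mem_ptor.2 hd)) n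
    rw [hgn, one_smul, left_eq_add] at h2
    exact sub_eq_zero.1 (eq_zero_of_coprime hn h2 hd)

/-- A faithful action with `O_p = 1` is faithful on the elements of order `p`. -/
theorem faithful_ptor [Finite Γ] [hp : Fact p.Prime] (hexp : ∀ v : V, ∃ n : ℕ, p ^ n • v = 0)
    (hf : ∀ g : Γ, (∀ v : V, g • v = v) → g = 1) (hO : Cfsg.pCore p Γ = ⊥) {g : Γ}
    (hg : ∀ v : ptor p V, g • v = v) : g = 1 := by
  let K : Subgroup Γ :=
    { carrier := {g | ∀ v : ptor p V, g • v = v}
      one_mem' := fun v => one_smul _ v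
      mul_mem' := fun {a b} ha hb v => by rw [mul_smul, hb, ha]
      inv_mem' := fun {a} ha v => by
        nth_rewrite 1 [← ha v]
        rw [inv_smul_smul] }
  haveI : K.Normal := ⟨fun k hk x v => by
    rw [mul_smul, mul_smul, show k • (x⁻¹ • v) = x⁻¹ • v from hk _, smul_inv_smul]⟩
  have hK : IsPGroup p K := by
    intro k
    obtain ⟨e, m, hm, hkm⟩ := Nat.exists_eq_pow_mul_and_not_dvd (orderOf_pos k).ne' p hp.out.ne_one
    refine ⟨e, ?_⟩
    have h1 : ((k : Γ) ^ p ^ e) ^ m = 1 := by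
      rw [← pow_mul, ← hkm, ← SubgroupClass.coe_pow, pow_orderOf_eq_one, OneMemClass.coe_one]
    refine Subtype.ext (hf _ fun v => fix_of_fix_ptor hexp h1
      ((Nat.Prime.coprime_iff_not_dvd hp.out).2 hm).symm (fun w hw => ?_) v)
    have := (k ^ p ^ e).2 ⟨w, hw⟩
    exact congrArg Subtype.val this
  have := CfsgLib.Base.le_pCore hK (show g ∈ K from hg)
  rw [hO] at this
  exact Subgroup.mem_bot.1 this

variable (p V) in
/-- The measure `|A| |C(A)|`. -/
noncomputable def msr (A : Subgroup Γ) : ℕ :=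
  Nat.card A * Nat.card {n : ptor p V // ∀ a ∈ A, a • n = n}

variable (p V) in
/-- A minimal quadratic offender. -/
structure IsOff (A : Subgroup Γ) : Prop where
  ne : A ≠ ⊥
  elem : ∀ a ∈ A, a ^ p = 1
  comm : ∀ a ∈ A, ∀ b ∈ A, a * b = b * a
  quad : ∀ a ∈ A, ∀ b ∈ A, ∀ n : ptor p V, b • (a • n - n) = a • n - n
  ineq : Nat.card (ptor p V) ≤ msr p V A
  strict : ∀ B : Subgroup Γ, B ≤ A → B ≠ ⊥ → B ≠ A → msr p V B < msr p V A

theorem IsOff.isPGroup {A : Subgroup Γ} (h : IsOff p V A) : IsPGroup p A :=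
  fun a => ⟨1, Subtype.ext (by rw [pow_one]; exact h.elem _ a.2)⟩

theorem exists_off [Finite Γ] {A : Subgroup Γ}
    (hf : ∀ g : Γ, (∀ v : ptor p V, g • v = v) → g = 1) (hne : A ≠ ⊥)
    (hcomm : ∀ a ∈ A, ∀ b ∈ A, a * b = b * a)
    (hquad : ∀ a ∈ A, ∀ b ∈ A, ∀ n : ptor p V, b • (a • n - n) = a • n - n)
    (hineq : Nat.card (ptor p V) ≤ msr p V A) : ∃ B ≤ A, IsOff p V B := by
  obtain ⟨B, ⟨hBA, hB0, hB⟩, hmin⟩ := Set.exists_min_image
    {B : Subgroup Γ | B ≤ A ∧ B ≠ ⊥ ∧ Nat.card (ptor p V) ≤ msr p V B}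
    (fun B => Nat.card B) (Set.toFinite _) ⟨A, le_rfl, hne, hineq⟩
  refine ⟨B, hBA, hB0, fun a ha => hf _ fun v => Subtype.ext ?_,
    fun a ha b hb => hcomm a (hBA ha) b (hBA hb), fun a ha b hb => hquad a (hBA ha) b (hBA hb), hB,
    fun C hC hC0 hCB => ?_⟩
  · have h1 := congrArg Subtype.val (hquad a (hBA ha) a (hBA ha) v)
    rw [coe_smul, AddSubgroupClass.coe_sub, coe_smul] at h1
    rw [coe_smul, pow_smul_eq (show a • (v : V) = v + (a • v - v) by abel) h1,
      show p • (a • (v : V) - v) = 0 by rw [nsmul_sub, ← nsmul_smul', mem_ptor.1 v.2]; simp, add_zero]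
  · by_contra hge
    exact absurd (hmin C ⟨hC.trans hBA, hC0, hB.trans (not_lt.1 hge)⟩)
      (not_le.2 (lt_of_le_of_ne (Nat.le_of_dvd Nat.card_pos (card_dvd_of_le hC))
        fun e => hCB (eq_of_le_of_card_ge hC e.ge)))

theorem msr_conj (g : Γ) (A : Subgroup Γ) :
    msr p V (A.map (MulAut.conj g).toMonoidHom) = msr p V A := by
  rw [msr, msr, card_map_of_injective (MulAut.conj g).injective]
  congr 1
  refine Nat.card_congr ((MulAction.toPerm g⁻¹).subtypeEquiv fun n => ?_)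
  constructor
  · intro h a ha
    show a • g⁻¹ • n = g⁻¹ • n
    have h1 := h (g * a * g⁻¹) ⟨a, ha, rfl⟩
    rw [mul_smul, mul_smul] at h1
    conv_rhs => rw [← h1, inv_smul_smul]
  · rintro h _ ⟨a, ha, rfl⟩
    show (g * a * g⁻¹) • n = n
    have h1 : a • g⁻¹ • n = g⁻¹ • n := h a ha
    rw [mul_smul, mul_smul, h1, smul_inv_smul]

theorem IsOff.conj {A : Subgroup Γ} (h : IsOff p V A) (g : Γ) :
    IsOff p V (A.map (MulAut.conj g).toMonoidHom) where
  ne e := h.ne ((map_eq_bot_iff_of_injective _ (MulAut.conj g).injective).1 e)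
  elem := by
    rintro _ ⟨a, ha, rfl⟩
    rw [← map_pow, h.elem a ha, map_one]
  comm := by
    rintro _ ⟨a, ha, rfl⟩ _ ⟨b, hb, rfl⟩
    rw [← map_mul, h.comm a ha b hb, map_mul]
  quad := by
    rintro _ ⟨a, ha, rfl⟩ _ ⟨b, hb, rfl⟩ n
    show (g * b * g⁻¹) • ((g * a * g⁻¹) • n - n) = (g * a * g⁻¹) • n - n
    have e : (g * a * g⁻¹) • n - n = g • (a • g⁻¹ • n - g⁻¹ • n) := by
      rw [smul_sub, smul_inv_smul, mul_smul, mul_smul]
    rw [e, mul_smul, mul_smul, inv_smul_smul, h.quad a ha b hb]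
  ineq := by rw [msr_conj]; exact h.ineq
  strict B hB hB0 hBA := by
    have e : (B.map (MulAut.conj g⁻¹).toMonoidHom).map (MulAut.conj g).toMonoidHom = B := by
      rw [map_map]
      conv_rhs => rw [← map_id B]
      congr 1
      ext z
      simp [mul_assoc]
    have hle : B.map (MulAut.conj g⁻¹).toMonoidHom ≤ A := by
      rintro _ ⟨b, hb, rfl⟩
      obtain ⟨a, ha, rfl⟩ := hB hb
      simpa [mul_assoc] using ha
    rw [msr_conj, ← msr_conj (p := p) (V := V) g⁻¹ B]
    refine h.strict _ hle (fun e' => hB0 ?_) fun e' => hBA ?_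
    · rw [← e, e', Subgroup.map_bot]
    · rw [← e, e']

end CfsgLib.WeakCentral
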