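import Cfsg.Agent.Lib.WeakCentral.Local
import Cfsg.Agent.Lib.Fusion.Normal
import Cfsg.Agent.Lib.Fusion.AlperinAbove
import Cfsg.Agent.Lib.Fusion.ModelExists
import Cfsg.Agent.Lib.Fusion.LocalModels
import Cfsg.Agent.Lib.Fusion.FunctorZJ
import Cfsg.Agent.S5096

/-!
A central subgroup `T` of `S` with `N_F(J(S)) ≤ N_F(T)` that is not weakly closed: some centric
fully normalized `X` has a model in which `N(J(N_S(X)))` normalises `T` while the model does not,
so `group_core` gives a cyclic automizer, transitive on its commutator with `T`.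
-/

set_option autoImplicit false
set_option linter.unusedSectionVars false

namespace CfsgLib.WeakCentral

open Subgroup Cfsg Cfsg.FusionSystem CfsgLib.Fusion

universe u

variable {Ω : Type u} [Group Ω] {S : Subgroup Ω} {F : FusionSystem S} {p : ℕ} [hp : Fact p.Prime]
  [Finite S] {T : Subgroup Ω}

theorem jAOf_le (P : Subgroup Ω) : thompsonSubgroupAOf P ≤ P := by
  rw [CfsgLib.LocalEven.thompsonSubgroupAOf_eq_jAb]
  exact CfsgLib.LocalEven.jAb_le P

theorem map_top_jAOf (P : Subgroup Ω) :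
    (thompsonSubgroupAOf (⊤ : Subgroup P)).map P.subtype = thompsonSubgroupAOf P := by
  rw [map_jAOf P.subtype_injective, ← MonoidHom.range_eq_map, range_subtype]

theorem img_jAOf {P M : Subgroup Ω} {f : Ω → Ω} (hf : IsMor F P f) (hM : M ≤ P) :
    img (thompsonSubgroupAOf M) f = thompsonSubgroupAOf (img M f) := by
  obtain ⟨φ, hφ, e⟩ := hf
  have h : (thompsonSubgroupAOf M).subgroupOf P = thompsonSubgroupAOf (M.subgroupOf P) :=
    map_injective P.subtype_injective (by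
      rw [map_jAOf P.subtype_injective, map_subgroupOf_eq_of_le hM,
        map_subgroupOf_eq_of_le ((jAOf_le M).trans hM)])
  rw [← map_subgroupOf_eq_img e hM, ← map_subgroupOf_eq_img e ((jAOf_le M).trans hM), h,
    map_jAOf (F.injective_of_mem hφ)]

/-- A central subgroup lies in the Thompson subgroup. -/
theorem le_jAOf {P Z : Subgroup Ω} (hP : P ≤ S) (hZ : Z ≤ P) (hc : Z ≤ centralizer (P : Set Ω)) :
    Z ≤ thompsonSubgroupAOf P := by
  have : Finite P := finite_of_le hP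
  rw [← map_top_jAOf P, ← map_subgroupOf_eq_of_le hZ]
  refine map_mono ?_
  rw [CfsgLib.LocalEven.thompsonSubgroupAOf_eq_jAb]
  obtain ⟨A, hA⟩ := CfsgLib.LocalEven.maxAb_nonempty (⊤ : Subgroup P)
  obtain ⟨-, hAc, hmax⟩ := CfsgLib.LocalEven.mem_maxAb.1 hA
  have hZc : Z.subgroupOf P ≤ centralizer ((⊤ : Subgroup P) : Set P) := fun z hz x _ =>
    Subtype.ext (hc hz x x.2)
  have h1 := hmax (Z.subgroupOf P ⊔ A) le_top (CfsgLib.LocalEven.isMulCommutative_sup
    (CfsgLib.LocalEven.isMulCommutative_of_le_centralizer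
      (hZc.trans (centralizer_le fun _ _ => trivial)))
    hAc (hZc.trans (centralizer_le fun _ _ => trivial)))
  have h2 : A = Z.subgroupOf P ⊔ A := eq_of_le_of_card_ge le_sup_right h1
  exact (le_sup_left.trans h2.ge).trans (CfsgLib.LocalEven.le_jAb hA)

theorem jAOf_eq {M : Subgroup Ω} (hM : M ≤ S) (h : thompsonSubgroupAOf S ≤ M) :
    thompsonSubgroupAOf M = thompsonSubgroupAOf S := by
  rw [← map_top_jAOf S, ← map_subgroupOf_eq_of_le hM, ← map_jAOf S.subtype_injective]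
  congr 1
  rw [CfsgLib.LocalEven.thompsonSubgroupAOf_eq_jAb, CfsgLib.LocalEven.thompsonSubgroupAOf_eq_jAb]
  refine CfsgLib.FpFailure.jAb_eq_of_all_le le_top fun A hA a ha => h ?_
  rw [← map_top_jAOf S, CfsgLib.LocalEven.thompsonSubgroupAOf_eq_jAb]
  exact ⟨a, CfsgLib.LocalEven.le_jAb hA ha, rfl⟩

theorem normalizerIn_le_jAOf {M : Subgroup Ω} (hM : M ≤ S) :
    normalizerIn S M ≤ normalizerIn S (thompsonSubgroupAOf M) := by
  intro s hs
  obtain ⟨hsS, hsM⟩ := mem_normalizerIn.1 hs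
  refine mem_normalizerIn.2 ⟨hsS, mem_normalizer_iff_map_conj_eq.2 ?_⟩
  show (thompsonSubgroupAOf M).map (MulAut.conj s).toMonoidHom = thompsonSubgroupAOf M
  rw [← img_cj, img_jAOf (isMor_cj (innerFusionSystem S) hM hsS) le_rfl, img_cj_of_normalizer hsM]

/-- The automizer of `X` moves `T`. -/
def Moved (F : FusionSystem S) (T X : Subgroup Ω) : Prop :=
  ∃ f, IsMor F X f ∧ img X f = X ∧ ∃ t ∈ T, f t ∉ T

/-- A transport of a moved subgroup along a map fixing `T`. -/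
theorem moved_img {Q N : Subgroup Ω} {θ : Ω → Ω} (hθ : IsMor F N θ) (hQN : Q ≤ N) (hTQ : T ≤ Q)
    (hfix : ∀ t ∈ T, θ t ∈ T) (hQ : Moved F T Q) :
    T ≤ img Q θ ∧ Moved F T (img Q θ) := by
  obtain ⟨f, hf, hfQ, t, ht, hft⟩ := hQ
  have hθQ := hθ.restrict hQN
  have hθT : img T θ = T := (hθ.restrict (hTQ.trans hQN)).img_eq_self hfix
  obtain ⟨ψ, hψ, hψl, -, hψi⟩ := hθQ.inverse
  have hψQ : ∀ x ∈ img Q θ, ψ x ∈ Q := fun x hx => hψi.le (mem_img_of_mem ψ hx)
  have hfm : ∀ x ∈ Q, f x ∈ Q := fun x hx => hfQ.le (mem_img_of_mem f hx)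
  refine ⟨hθT.ge.trans (img_mono θ hTQ), θ ∘ f ∘ ψ, (hψ.comp hf hψQ).comp hθQ
    fun x hx => hfm _ (hψQ x hx), ?_, θ t, hfix t ht, fun h => hft ?_⟩
  · exact ((hψ.comp hf hψQ).comp hθQ fun x hx => hfm _ (hψQ x hx)).img_eq_self
      fun x hx => mem_img_of_mem θ (hfm _ (hψQ x hx))
  · have h1 : θ (f t) ∈ T := by
      have : θ (f (ψ (θ t))) ∈ T := h
      rwa [hψl t (hTQ ht)] at this
    rw [← hθT] at h1
    exact (hθ.mem_img_iff (hTQ.trans hQN) (hQN (hfm t (hTQ ht)))).1 h1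

section Main

variable (hS : IsPGroup p S) (hF : F.IsSaturated p)

include hS hF in
/-- A moved subgroup with a large normalizer has a fully normalized conjugate with the same
property. -/
theorem moved_push {Q : Subgroup Ω} (hQS : Q ≤ S) (hTQ : T ≤ Q) (hQ : Moved F T Q)
    (hfix : ∀ f, IsMor F (normalizerIn S Q) f → ∀ t ∈ T, f t ∈ T) :
    ∃ Q', F.IsConj Q Q' ∧ F.IsFullyNormalized Q' ∧ T ≤ Q' ∧ Moved F T Q' ∧
      Nat.card (normalizerIn S Q) ≤ Nat.card (normalizerIn S Q') := by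
  obtain ⟨Q', hc, hn⟩ := exists_fullyNormalized F hQS
  obtain ⟨θ, hθ, rfl, hθN⟩ := exists_map_fullyNormalized hS hF hn hc
  obtain ⟨h1, h2⟩ := moved_img hθ (le_normalizerIn hQS) hTQ (hfix θ hθ) hQ
  refine ⟨_, hc, hn, h1, h2, ?_⟩
  rw [← hθ.card_img]
  have : Finite ↥(normalizerIn S (img Q θ)) := finite_of_le normalizerIn_le
  exact card_le_of_le hθN

include hS hF in
/-- Extension of an automorphism of a fully normalized subgroup to the join with its centralizer,
which is centric. -/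
theorem moved_join {W : Subgroup Ω} (hn : F.IsFullyNormalized W) (hTW : T ≤ W)
    (hW : Moved F T W) :
    F.IsCentric (W ⊔ centralizerIn S W) ∧ Moved F T (W ⊔ centralizerIn S W) ∧
      normalizerIn S W ≤ normalizerIn S (W ⊔ centralizerIn S W) := by
  set C := centralizerIn S W with hC
  have hRS : W ⊔ C ≤ S := sup_le hn.1 centralizerIn_le
  have hfc := isFullyCentralized_of_normalized hS hF hn
  refine ⟨⟨hRS, fun Q hQ => ?_⟩, ?_, fun s hs => ?_⟩
  · obtain ⟨g, hg, rfl⟩ := isConj_iff.1 hQ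
    have hgW := hg.restrict (le_sup_left : W ≤ W ⊔ C)
    have hgC := hg.restrict (le_sup_right : C ≤ W ⊔ C)
    have h1 : img C g ≤ centralizerIn S (img W g) :=
      img_le fun x hx => mapsTo_centralizerIn hg le_sup_left le_sup_right x hx
    have h2 := eq_of_le_of_card centralizerIn_le h1 (by
      rw [hgC.card_img]; exact hfc.2 _ (isConj_img hgW))
    exact (centralizerIn_anti (img_mono g le_sup_left)).trans
      (h2.ge.trans (img_mono g le_sup_right))
  · obtain ⟨f, hf, hfW, t, ht, hft⟩ := hW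
    obtain ⟨g, hg, hgf⟩ := (isReceptive_iff.1 (isFullyAutomized_of_normalized hS hF hn).2).2 W f
      hf hfW
    have hle : W ⊔ C ≤ nExt S W f := sup_le (le_nExt hf) (centralizerIn_le_nExt f)
    have hgR := hg.restrict hle
    have hgW : img W g = W := (img_congr hgf).trans hfW
    refine ⟨g, hgR, ?_, t, ht, hgf t (hTW ht) ▸ hft⟩
    have h1 : img C g ≤ C := img_le fun x hx => by
      have := mapsTo_centralizerIn hgR le_sup_left le_sup_right x hx
      rwa [hgW] at this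
    exact hgR.img_eq_self fun x hx => by
      have h2 := mem_img_of_mem g hx
      rw [hgR.img_sup, hgW] at h2
      exact sup_le_sup_left h1 W h2
  · obtain ⟨hsS, hsW⟩ := mem_normalizerIn.1 hs
    refine mem_normalizerIn.2 ⟨hsS, mem_normalizer_iff_map_conj_eq.2 ?_⟩
    show (W ⊔ C).map (MulAut.conj s).toMonoidHom = W ⊔ C
    rw [← img_cj]
    have hm := isMor_cj F hRS hsS
    have hW' := img_cj_of_normalizer hsW
    refine hm.img_eq_self fun x hx => ?_
    have h2 := mem_img_of_mem (cj s) hx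
    rw [hm.img_sup, hW'] at h2
    refine sup_le_sup_left (img_le fun y hy => ?_) W h2
    have := mapsTo_centralizerIn hm le_sup_left le_sup_right y hy
    rwa [hW'] at this

end Main

theorem main (hS : IsPGroup p S) (hF : F.IsSaturated p) (hp2 : p ≠ 2)
    (hT : T ≤ S ⊓ centralizer (S : Set Ω))
    (hJT : ∀ NJ : FusionSystem (normalizerIn S (thompsonSubgroupAOf S)),
      F.IsNormalizerSystem (thompsonSubgroupAOf S) NJ →
      ∀ NT : FusionSystem (normalizerIn S T), F.IsNormalizerSystem T NT → NJ.IsSubsystemOf NT) :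
    F.WeaklyClosed T ∨ ∃ X : Subgroup (MulAut ↥T), X ≤ F.autGroup T ∧ X ≠ ⊥ ∧ IsCyclic ↥X ∧
      (Nat.card ↥X).Coprime p ∧ ∀ a b : ↥T,
        a ∈ Subgroup.closure {y : ↥T | ∃ ψ ∈ X, ∃ t : ↥T, y = ψ t * t⁻¹} →
        b ∈ Subgroup.closure {y : ↥T | ∃ ψ ∈ X, ∃ t : ↥T, y = ψ t * t⁻¹} →
        a ≠ 1 → b ≠ 1 → ∃ ψ ∈ X, ψ a = b := by
  classical
  have hTS : T ≤ S := hT.trans inf_le_left
  have hTc : T ≤ centralizer (S : Set Ω) := hT.trans inf_le_right
  set J := thompsonSubgroupAOf S with hJdef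
  have hJS : J ≤ S := jAOf_le S
  have hTJ : T ≤ J := le_jAOf le_rfl hTS hTc
  have hSnT : S ≤ normalizer (T : Set Ω) :=
    (le_centralizer_iff.1 hTc).trans (Subgroup.centralizer_le_normalizer _)
  -- maps fixing `J(S)` fix `T`
  have hstar : ∀ f, IsMor F J f → img J f = J → ∀ t ∈ T, f t ∈ T := by
    intro f hf hfJ t ht
    obtain ⟨NJ, hNJ⟩ := Cfsg.Agent.S5096.result F J hJS
    obtain ⟨NT, hNT⟩ := Cfsg.Agent.S5096.result F T hTS
    have h1 : IsMor NJ J f := (isMor_normalizerSystem hNJ).2 ⟨hf, le_normalizerIn hJS,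
      fun x hx => le_normalizerIn hJS (hfJ.le (mem_img_of_mem f hx)), f,
      by rwa [sup_idem], fun _ _ => rfl, hfJ⟩
    obtain ⟨-, -, -, g, -, hgf, hgT⟩ :=
      (isMor_normalizerSystem hNT).1 (le_iff_isMor.1 (hJT NJ hNJ NT hNT) J f h1)
    exact hgf t (hTJ ht) ▸ hgT.le (mem_img_of_mem g ht)
  have hcentT : ∀ X, F.IsCentric X → T ≤ X := fun X hX =>
    (le_inf hTS (hTc.trans (centralizer_le hX.1))).trans (centric_centralizer_le hX)
  obtain ⟨E, hE⟩ := exists_extending_system F hTS hSnT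
  have hEfix : ∀ P f, IsMor E P f → T ≤ P → ∀ t ∈ T, f t ∈ T := by
    intro P f h hTP t ht
    obtain ⟨-, g, -, hgf, hgT⟩ := (hE P f).1 h
    exact hgf t (hTP ht) ▸ hgT.le (mem_img_of_mem g ht)
  have haut : ∀ P, F.IsCentric P → ¬ Moved F T P → F.autGroup P ≤ E.autGroup P := by
    intro P hP hnm α hα
    have hm := isMor_autFun hP.1 hα
    refine (autGroup_eq_set hP.1 α).2 ((hE P _).2 ⟨hm, autFun α,
      (sup_eq_left.2 (hcentT P hP)).symm ▸ hm, fun _ _ => rfl,
      (hm.restrict (hcentT P hP)).img_eq_self fun t ht => ?_⟩)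
    by_contra h
    exact hnm ⟨_, hm, img_autFun α, t, ht, h⟩
  by_cases hwc : F.WeaklyClosed T
  · exact Or.inl hwc
  right
  -- a moving map of largest source
  have hfinS : {P : Subgroup Ω | P ≤ S}.Finite :=
    (Set.finite_range fun H : Subgroup S => H.map S.subtype).subset
      fun P hP => ⟨P.subgroupOf S, map_subgroupOf_eq_of_le hP⟩
  set PP := {P : Subgroup Ω | T ≤ P ∧ ∃ f, IsMor F P f ∧ ∃ t ∈ T, f t ∉ T} with hPP
  have hne : PP.Nonempty := by
    by_contra hcon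
    refine hwc ⟨hTS, fun φ hφ => ?_⟩
    rw [range_eq_img_toFun]
    refine (isMor_of_mem hφ).img_eq_self fun t ht => ?_
    by_contra h
    exact hcon ⟨T, le_rfl, _, isMor_of_mem hφ, t, ht, h⟩
  obtain ⟨P₀, ⟨hTP₀, f₀, hf₀, t₀, ht₀, hft₀⟩, hmax⟩ := Set.exists_max_image PP
    (fun P => Nat.card P) (hfinS.subset fun P hP => by
      obtain ⟨-, f, hf, -⟩ := hP
      exact hf.le) hne
  have hfix : ∀ P f, IsMor F P f → T ≤ P → Nat.card P₀ < Nat.card P → ∀ t ∈ T, f t ∈ T := by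
    intro P f hf hTP hlt t ht
    by_contra h
    exact absurd (hmax P ⟨hTP, f, hf, t, ht, h⟩) (not_le.2 hlt)
  have : Finite P₀ := finite_of_le hf₀.le
  obtain ⟨R, hRS, hRc, hRn, hRm, hRcard⟩ : ∃ R, R ≠ S ∧ F.IsCentric R ∧ F.IsFullyNormalized R ∧
      Moved F T R ∧ Nat.card P₀ ≤ Nat.card R := by
    by_contra hcon
    push Not at hcon
    have hpos : 0 < Nat.card P₀ := Nat.card_pos
    refine hft₀ (hEfix P₀ f₀ (alperin_above (Nat.card P₀ - 1) hS hF (E := E) (fun P hP h => ?_)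
      P₀ f₀ hf₀ (by omega)) hTP₀ t₀ ht₀)
    rcases eq_or_ne P S with rfl | hPS
    · refine haut _ (centric_self F) ?_
      rintro ⟨f, hf, hfS, t, ht, hft⟩
      refine hft (hstar f (hf.restrict hJS) ?_ t ht)
      rw [hJdef, img_jAOf hf le_rfl, hfS]
    · obtain ⟨hc, hn, -⟩ := h.resolve_left hPS
      refine haut P hc fun hm => ?_
      have := hcon P hPS hc hn hm
      omega
  set BB := {X : Subgroup Ω | F.IsCentric X ∧ F.IsFullyNormalized X ∧ Moved F T X} with hBB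
  obtain ⟨X, ⟨hXc, hXn, hXm⟩, hXmax⟩ := Set.exists_max_image BB
    (fun X => Nat.card (normalizerIn S X)) (hfinS.subset fun X hX => hX.1.1) ⟨R, hRc, hRn, hRm⟩
  set M := normalizerIn S X with hMdef
  have hMS : M ≤ S := normalizerIn_le
  have hlt : Nat.card P₀ < Nat.card M := by
    refine lt_of_le_of_lt hRcard (lt_of_lt_of_le ?_ (hXmax R ⟨hRc, hRn, hRm⟩))
    exact card_lt_of_lt normalizerIn_le (normalizerIn_gt hS (lt_of_le_of_ne hRc.1 hRS))
  have hXM : X ≤ M := le_normalizerIn hXc.1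
  have hTM : T ≤ M := (hcentT X hXc).trans hXM
  -- normalizing `J(M)` fixes `T`
  have hW : ∀ f, IsMor F (thompsonSubgroupAOf M) f →
      img (thompsonSubgroupAOf M) f = thompsonSubgroupAOf M → ∀ t ∈ T, f t ∈ T := by
    intro f hf hfW t ht
    by_contra hft
    set W := thompsonSubgroupAOf M with hWdef
    have hTW : T ≤ W := le_jAOf hMS hTM (hTc.trans (centralizer_le hMS))
    by_cases hJM : J ≤ M
    · have e : W = J := jAOf_eq hMS hJM
      rw [e] at hf hfW
      exact hft (hstar f hf hfW t ht)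
    have hMlt : M < normalizerIn S M :=
      normalizerIn_gt hS (lt_of_le_of_ne hMS fun e => hJM (e ▸ hJS))
    have hWS : W ≤ S := (jAOf_le M).trans hMS
    have h1 : Nat.card M < Nat.card (normalizerIn S W) := by
      have : Finite ↥(normalizerIn S W) := finite_of_le normalizerIn_le
      exact lt_of_lt_of_le (card_lt_of_lt normalizerIn_le hMlt)
        (card_le_of_le (normalizerIn_le_jAOf hMS))
    obtain ⟨W', -, hn', hTW', hm', hc'⟩ := moved_push hS hF hWS hTW ⟨f, hf, hfW, t, ht, hft⟩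
      fun g hg => hfix _ g hg (hTW.trans (le_normalizerIn hWS)) (hlt.trans h1)
    obtain ⟨hR1, hR1m, hN⟩ := moved_join hS hF hn' hTW' hm'
    have h2 : Nat.card (normalizerIn S W') ≤
        Nat.card (normalizerIn S (W' ⊔ centralizerIn S W')) := by
      have : Finite ↥(normalizerIn S (W' ⊔ centralizerIn S W')) := finite_of_le normalizerIn_le
      exact card_le_of_le hN
    obtain ⟨X', hXc', hXn', -, hXm', hc''⟩ := moved_push hS hF hR1.1 (hTW'.trans le_sup_left) hR1m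
      fun g hg => hfix _ g hg ((hTW'.trans le_sup_left).trans (le_normalizerIn hR1.1))
        (by omega)
    have := hXmax X' ⟨centric_of_isConj hR1 hXc', hXn', hXm'⟩
    omega
  -- the model
  obtain ⟨NX, hNX⟩ := Cfsg.Agent.S5096.result F X hXc.1
  have : Finite M := finite_of_le hMS
  obtain ⟨L, iL, ι, hfinL, hreal, ⟨Sy, hSy⟩, hcon⟩ := exists_model (isPGroup_of_le hMS hS)
    (normalizerSystem_isConstrained hS hF hXn hXc hNX)
  set κ : T →* L := ι.comp (Subgroup.inclusion hTM) with hκ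
  set Tb := κ.range with hTb
  have hTbS : Tb ≤ (Sy : Subgroup L) := by
    rw [hSy]
    rintro _ ⟨t, rfl⟩
    exact ⟨_, rfl⟩
  have hTbc : Tb ≤ centralizer ((Sy : Subgroup L) : Set L) := by
    rw [hSy]
    rintro _ ⟨t, rfl⟩ _ ⟨a, rfl⟩
    show ι a * ι (Subgroup.inclusion hTM t) = ι (Subgroup.inclusion hTM t) * ι a
    rw [← map_mul, ← map_mul]
    exact congrArg ι (Subtype.ext (hTc t.2 a (hMS a.2)))
  have hmemTb : ∀ a : M, ι a ∈ Tb → (a : Ω) ∈ T := by
    rintro a ⟨t, e⟩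
    rw [← hreal.1 e]
    exact t.2
  have hnn : ¬ Tb.Normal := by
    intro hnor
    obtain ⟨f, hf, hfX, t, ht, hft⟩ := hXm
    have hfmem : ∀ x ∈ X, f x ∈ M := fun x hx => hXM (hfX.le (mem_img_of_mem f hx))
    obtain ⟨φ, hφ, e⟩ := (isMor_normalizerSystem hNX).2 ⟨hf, hXM, hfmem, f,
      by rwa [sup_idem], fun _ _ => rfl, hfX⟩
    obtain ⟨g, hg⟩ := (hreal.2 X hXM φ fun x => (e x).symm ▸ hfmem x x.2).1 hφ
    have h1 := hg ⟨t, hcentT X hXc ht⟩
    refine hft ?_
    have h2 : ι ⟨φ ⟨t, hcentT X hXc ht⟩, (e _).symm ▸ hfmem t (hcentT X hXc ht)⟩ ∈ Tb := by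
      rw [h1]
      exact hnor.conj_mem _ ⟨⟨t, ht⟩, rfl⟩ g
    have h3 := hmemTb _ h2
    have h4 : φ ⟨t, hcentT X hXc ht⟩ ∈ T := h3
    rwa [e] at h4
  have hJ : normalizer (thompsonSubgroupAOf (Sy : Subgroup L) : Set L) ≤
      normalizer (Tb : Set L) := by
    intro g hg
    have hJimg : thompsonSubgroupAOf (Sy : Subgroup L) =
        (thompsonSubgroupAOf (⊤ : Subgroup M)).map ι := by
      rw [map_jAOf hreal.1, hSy, ← MonoidHom.range_eq_map]
    have hWmem : ∀ a : M, ι a ∈ thompsonSubgroupAOf (Sy : Subgroup L) ↔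
        (a : Ω) ∈ thompsonSubgroupAOf M := by
      intro a
      rw [hJimg, ← map_top_jAOf M]
      exact (mem_map_iff_mem hreal.1).trans (mem_map_iff_mem M.subtype_injective).symm
    have hWM : thompsonSubgroupAOf M ≤ M := jAOf_le M
    have hrng : ∀ a : M, (a : Ω) ∈ thompsonSubgroupAOf M →
        g * ι a * g⁻¹ ∈ ι.range ∧ g * ι a * g⁻¹ ∈ thompsonSubgroupAOf (Sy : Subgroup L) := by
      intro a ha
      have h1 := (mem_normalizer_iff.1 hg _).1 ((hWmem a).2 ha)
      refine ⟨?_, h1⟩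
      rw [hJimg] at h1
      exact map_le_range _ _ h1
    obtain ⟨hfmor, hind⟩ := isMor_pullConj hreal hWM fun a ha => (hrng a ha).1
    have hfW : ∀ x ∈ thompsonSubgroupAOf M, pullConj ι g x ∈ thompsonSubgroupAOf M := by
      intro x hx
      obtain ⟨b, hb, hbe⟩ := pullConj_spec ι (hrng ⟨x, hWM hx⟩ hx).1
      have h1 : ι b ∈ thompsonSubgroupAOf (Sy : Subgroup L) := by
        rw [hbe]; exact (hrng ⟨x, hWM hx⟩ hx).2
      have h2 := (hWmem b).1 h1
      rwa [hb] at h2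
    have hfF := ((isMor_normalizerSystem hNX).1 hfmor).1
    refine mem_normalizer_iff_map_conj_eq.2 (eq_of_le_of_card_ge ?_
      (card_map_of_injective (MulAut.conj g).injective).ge)
    rintro _ ⟨_, ⟨t, rfl⟩, rfl⟩
    have htW : (t : Ω) ∈ thompsonSubgroupAOf M :=
      le_jAOf hMS hTM (hTc.trans (centralizer_le hMS)) t.2
    have h4 := hW _ hfF (hfF.img_eq_self hfW) t t.2
    exact ⟨⟨_, h4⟩, hind (Subgroup.inclusion hTM t) ⟨_, hTM h4⟩ htW rfl⟩
  obtain ⟨h, hh, T0, ⟨k, hk, hkfix⟩, ⟨_, ⟨t₁, rfl⟩, hmove⟩, hT0, htr⟩ :=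
    group_core hp2 Sy Tb hTbS hTbc hcon hJ hnn
  -- the automorphism of `T`
  have hrng : ∀ a : M, (a : Ω) ∈ T → h * ι a * h⁻¹ ∈ ι.range ∧ h * ι a * h⁻¹ ∈ Tb := by
    intro a ha
    have h1 : h * ι a * h⁻¹ ∈ Tb := (mem_normalizer_iff.1 hh _).1 ⟨⟨a, ha⟩, rfl⟩
    obtain ⟨t, ht⟩ := id h1
    exact ⟨⟨_, ht⟩, h1⟩
  obtain ⟨hfmor, hind⟩ := isMor_pullConj hreal hTM fun a ha => (hrng a ha).1
  have hfF := ((isMor_normalizerSystem hNX).1 hfmor).1
  have hfT : ∀ x ∈ T, pullConj ι h x ∈ T := by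
    intro x hx
    obtain ⟨b, hb, hbe⟩ := pullConj_spec ι (hrng ⟨x, hTM hx⟩ hx).1
    have h1 := hmemTb b (hbe ▸ (hrng ⟨x, hTM hx⟩ hx).2)
    rwa [hb] at h1
  obtain ⟨α, hα, hαe⟩ := exists_aut hfF (hfF.img_eq_self hfT)
  have hstep : ∀ t : T, κ (α t) = h * κ t * h⁻¹ := fun t => by
    refine hind (Subgroup.inclusion hTM t) (Subgroup.inclusion hTM (α t)) t.2 ?_
    exact (autFun_coe α t).symm.trans (hαe t t.2)
  have hpow : ∀ (n : ℕ) (t : T), κ ((α ^ n) t) = h ^ n * κ t * (h ^ n)⁻¹ := by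
    intro n
    induction n with
    | zero => intro t; simp
    | succ n ih =>
      intro t
      rw [pow_succ', MulAut.mul_apply, hstep, ih, pow_succ']
      group
  have hκinj : Function.Injective κ := hreal.1.comp (Subgroup.inclusion_injective hTM)
  have : Finite T := finite_of_le hTS
  have : Finite (MulAut T) := finite_mulAut hTS
  have hne1 : α ≠ 1 := fun e => hmove (by rw [← hstep t₁, e]; rfl)
  have hord : orderOf α ∣ k := orderOf_dvd_of_pow_eq_one (MulEquiv.ext fun t => hκinj (by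
    rw [hpow]; exact hkfix (κ t) ⟨t, rfl⟩))
  have hgen : Subgroup.closure {y : ↥T | ∃ ψ ∈ zpowers α, ∃ t : ↥T, y = ψ t * t⁻¹} ≤
      T0.comap κ := by
    refine (closure_le _).2 ?_
    rintro _ ⟨ψ, hψ, t, rfl⟩
    obtain ⟨n, rfl⟩ := mem_powers_iff_mem_zpowers.2 hψ
    show κ ((α ^ n) t * t⁻¹) ∈ T0
    induction n with
    | zero => simp
    | succ n ih =>
      rw [show (α ^ (n + 1)) t * t⁻¹ =
          (α ((α ^ n) t) * ((α ^ n) t)⁻¹) * ((α ^ n) t * t⁻¹) by
        rw [pow_succ', MulAut.mul_apply]; group, map_mul]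
      refine T0.mul_mem ?_ (ih (pow_mem (mem_zpowers α) n))
      rw [map_mul, map_inv, hstep]
      exact hT0 _ ⟨_, rfl⟩
  refine ⟨zpowers α, zpowers_le.2 hα, ?_, inferInstance, ?_, fun a b ha hb ha1 hb1 => ?_⟩
  · rwa [Ne, zpowers_eq_bot]
  · rw [Nat.card_zpowers]
    exact hk.coprime_dvd_left hord
  · obtain ⟨i, hi⟩ := htr (κ a) (hgen ha) (κ b) (hgen hb)
      (fun e => ha1 (hκinj (e.trans κ.map_one.symm)))
      (fun e => hb1 (hκinj (e.trans κ.map_one.symm)))
    exact ⟨α ^ i, pow_mem (mem_zpowers α) i, hκinj ((hpow i a).trans hi)⟩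

end CfsgLib.WeakCentral
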