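import Cfsg.Agent.Lib.WeakCentral.Pair
import Cfsg.Agent.Lib.LocalEven.OffenderSL2.Main

/-!
The torus of the group generated by a minimal pair of offenders acts on `T`: transitively on the
nonzero elements of a subgroup containing all its commutators.
-/

set_option autoImplicit false
set_option linter.unusedSectionVars false
set_option linter.style.haveILetI false

namespace CfsgLib.WeakCentral

open Subgroup Matrix CfsgLib.LocalEven.OffenderSL2

section SL

variable {F : Type*} [Field F]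

/-- The Weyl element. -/
def weyl : Matrix.SpecialLinearGroup (Fin 2) F :=
  ⟨!![0, -1; 1, 0], by simp [Matrix.det_fin_two_of]⟩

/-- An upper unitriangular matrix. -/
def uni (x : F) : Matrix.SpecialLinearGroup (Fin 2) F :=
  ⟨!![1, x; 0, 1], by simp [Matrix.det_fin_two_of]⟩

theorem fixed_uni {u : Fin 2 → F} (h : (uni (1 : F)).1.mulVec u = u) : u = ![u 0, 0] := by
  have h0 := congrFun h 0
  simp [uni, Matrix.mulVec, dotProduct] at h0
  funext i
  fin_cases i <;> simp [h0]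

/-- The diagonal torus. -/
def diag : Fˣ →* Matrix.SpecialLinearGroup (Fin 2) F where
  toFun μ := ⟨!![(μ : F), 0; 0, (↑μ⁻¹ : F)], by simp [Matrix.det_fin_two_of]⟩
  map_one' := Subtype.ext (by simp [Matrix.one_fin_two])
  map_mul' a b := Subtype.ext (by
    show !![((a * b : Fˣ) : F), 0; 0, (((a * b)⁻¹ : Fˣ) : F)] =
      !![(a : F), 0; 0, (↑a⁻¹ : F)] * !![(b : F), 0; 0, (↑b⁻¹ : F)]
    simp [Matrix.mul_fin_two, mul_comm])

theorem mul_mulVec' (X Y : Matrix.SpecialLinearGroup (Fin 2) F) (u : Fin 2 → F) :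
    (X * Y).1.mulVec u = X.1.mulVec (Y.1.mulVec u) := by
  rw [Matrix.mulVec_mulVec, Matrix.SpecialLinearGroup.coe_mul]

theorem inv_mulVec' (X : Matrix.SpecialLinearGroup (Fin 2) F) (u : Fin 2 → F) :
    (X⁻¹).1.mulVec (X.1.mulVec u) = u := by
  rw [← mul_mulVec', inv_mul_cancel, Matrix.SpecialLinearGroup.coe_one, Matrix.one_mulVec]

theorem mulVec_inv' (X : Matrix.SpecialLinearGroup (Fin 2) F) (u : Fin 2 → F) :
    X.1.mulVec ((X⁻¹).1.mulVec u) = u := by
  rw [← mul_mulVec', mul_inv_cancel, Matrix.SpecialLinearGroup.coe_one, Matrix.one_mulVec]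

theorem conj_mulVec' (P X : Matrix.SpecialLinearGroup (Fin 2) F) (u : Fin 2 → F) :
    (P * X * P⁻¹).1.mulVec (P.1.mulVec u) = P.1.mulVec (X.1.mulVec u) := by
  rw [mul_mulVec', mul_mulVec', inv_mulVec']

theorem fixed_line {P : Matrix.SpecialLinearGroup (Fin 2) F} {u : Fin 2 → F}
    (h : (P * uni 1 * P⁻¹).1.mulVec u = u) : ∃ c : F, u = P.1.mulVec ![c, 0] := by
  refine ⟨(P⁻¹).1.mulVec u 0, ?_⟩
  rw [← fixed_uni (u := (P⁻¹).1.mulVec u), mulVec_inv']
  conv_rhs => rw [← h, mul_mulVec', mul_mulVec', inv_mulVec']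

theorem diag_coe (μ : Fˣ) : (diag μ).1 = !![(μ : F), 0; 0, (↑μ⁻¹ : F)] := rfl

theorem exists_first_col {e : Fin 2 → F} (he : e ≠ 0) :
    ∃ P : Matrix.SpecialLinearGroup (Fin 2) F, P.1.mulVec ![1, 0] = e := by
  by_cases h0 : e 0 = 0
  · have h1 : e 1 ≠ 0 := fun h1 => he (funext fun i => by fin_cases i <;> simpa)
    refine ⟨⟨!![0, -(e 1)⁻¹; e 1, 0], by simp [Matrix.det_fin_two_of, h1]⟩, funext fun i => ?_⟩
    fin_cases i <;> simp [h0]
  · refine ⟨⟨!![e 0, 0; e 1, (e 0)⁻¹], by simp [Matrix.det_fin_two_of, h0]⟩, funext fun i => ?_⟩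
    fin_cases i <;> simp

theorem eq_uni {g : Matrix.SpecialLinearGroup (Fin 2) F} (h : g.1.mulVec ![1, 0] = ![1, 0]) :
    g = uni (g.1 0 1) := by
  have h00 : g.1 0 0 = 1 := by simpa using congrFun h 0
  have h10 : g.1 1 0 = 0 := by simpa using congrFun h 1
  have hd := g.2
  rw [Matrix.det_fin_two, h00, h10, one_mul, mul_zero, sub_zero] at hd
  refine Subtype.ext (Matrix.ext fun i j => ?_)
  fin_cases i <;> fin_cases j <;> simp [uni, h00, h10, hd]

theorem diag_uni (μ : Fˣ) (x : F) : diag μ * uni x * (diag μ)⁻¹ = uni ((μ : F) * μ * x) := by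
  rw [mul_inv_eq_iff_eq_mul]
  refine Subtype.ext ?_
  rw [Matrix.SpecialLinearGroup.coe_mul, Matrix.SpecialLinearGroup.coe_mul, diag_coe]
  simp only [uni, Matrix.mul_fin_two]
  refine Matrix.ext fun i j => ?_
  fin_cases i <;> fin_cases j <;> simp
  field_simp

end SL

variable {p : ℕ} {Γ : Type*} [Group Γ] {V : Type*} [AddCommGroup V] [DistribMulAction Γ V]
  [Finite Γ] [Finite V] [hp : Fact p.Prime]

theorem msr_sub {K : Subgroup Γ} (A : Subgroup K) :
    Nat.card A * Nat.card {n : ptor p V // ∀ a ∈ A, a • n = n} = msr p V (A.map K.subtype) := by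
  rw [msr, card_map_of_injective K.subtype_injective]
  congr 1
  refine Nat.card_congr (Equiv.subtypeEquivRight fun n => ⟨?_, fun h a ha => h _ ⟨a, ha, rfl⟩⟩)
  rintro h _ ⟨a, ha, rfl⟩
  exact h a ha

/-- Averaging a vector fixed by a subgroup of index prime to `p`. -/
theorem exists_ptor_fixed {K : Subgroup Γ} (Q : Sylow p K) {t : V}
    (hQ : ∀ k ∈ (Q : Subgroup K), k • t = t) (hpt : ∀ k : K, k • (p • t) = p • t)
    (hmove : ∃ k : K, k • t ≠ t) :
    ∃ v : ptor p V, (∀ k ∈ (Q : Subgroup K), k • v = v) ∧ ¬ ∀ k : K, k • v = v := by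
  classical
  haveI : Fintype (K ⧸ (Q : Subgroup K)) := Fintype.ofFinite _
  let f : K ⧸ (Q : Subgroup K) → V := fun q => Quotient.liftOn' q (fun k => k • t) fun a b hab => by
    have h1 := hQ _ (QuotientGroup.leftRel_apply.1 hab)
    rw [mul_smul, inv_smul_eq_iff] at h1
    exact h1.symm
  have hf : ∀ (k : K) q, k • f q = f (k • q) := fun k q => Quotient.inductionOn' q fun a => by
    show k • a • t = (k * a) • t
    rw [mul_smul]
  have hsum : ∀ k : K, k • ∑ q, f q = ∑ q, f q := fun k => by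
    rw [Finset.smul_sum]
    simp only [hf]
    exact Fintype.sum_bijective _ (MulAction.bijective k) _ _ fun q => rfl
  set n := Fintype.card (K ⧸ (Q : Subgroup K)) with hn
  have hcop : n.Coprime p := by
    have h1 : ¬ p ∣ (Q : Subgroup K).index := Q.not_dvd_index
    rw [Subgroup.index_eq_card, Nat.card_eq_fintype_card, ← hn] at h1
    exact ((Nat.Prime.coprime_iff_not_dvd hp.out).2 h1).symm
  have hpf : ∀ q, p • f q = p • t := fun q => Quotient.inductionOn' q fun a => by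
    show p • (a • t) = p • t
    rw [← nsmul_smul', hpt]
  have hv : n • t - ∑ q, f q ∈ ptor p V := by
    rw [mem_ptor, nsmul_sub, Finset.smul_sum]
    simp only [hpf]
    rw [Finset.sum_const, Finset.card_univ, ← hn, ← mul_nsmul', ← mul_nsmul', mul_comm, sub_self]
  refine ⟨⟨_, hv⟩, fun k hk => Subtype.ext ?_, fun hall => ?_⟩
  · show k • (n • t - ∑ q, f q) = _
    rw [smul_sub, hsum, nsmul_smul', hQ k hk]
  · obtain ⟨k, hk⟩ := hmove
    refine hk (sub_eq_zero.1 (eq_zero_of_coprime hcop ?_ (by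
      rw [nsmul_sub, ← nsmul_smul', hpt, sub_self])))
    have h1 : k • (n • t - ∑ q, f q) = n • t - ∑ q, f q := congrArg Subtype.val (hall k)
    rw [smul_sub, hsum, sub_left_inj, nsmul_smul'] at h1
    rw [nsmul_sub, h1, sub_self]

theorem pow_smul_quad {a : Γ} {v d e : V} (h1 : a • v = v + d) (h2 : a • d = d + e) (h3 : a • e = e)
    (n : ℕ) : a ^ n • v = v + n • d + n.choose 2 • e := by
  induction n with
  | zero => simp
  | succ n ih =>
    rw [pow_succ', mul_smul, ih, smul_add, smul_add, nsmul_smul', nsmul_smul', h1, h2, h3,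
      show (n + 1).choose 2 = n + n.choose 2 by rw [Nat.choose_succ_succ', Nat.choose_one_right]]
    simp only [add_nsmul, one_nsmul, nsmul_add]
    abel

/-- The main lemma on `T`. -/
theorem Cfg.exists_torus (hp2 : p ≠ 2) {R : Sylow p Γ} {T : AddSubgroup V} (cf : Cfg p R T) :
    ∃ h ∈ (stabT T : Subgroup Γ), (orderOf h).Coprime p ∧ (∃ t ∈ T, h • t ≠ t) ∧
      ∃ T0 : AddSubgroup V, (∀ t ∈ T, h • t - t ∈ T0) ∧
        ∀ a ∈ T0, ∀ b ∈ T0, a ≠ 0 → b ≠ 0 → ∃ i : ℕ, h ^ i • a = b := by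
  classical
  obtain ⟨C, K, Q, M, hC, hCK, hCQ, hQF, hKF, hM, hQM, huniq, hgen, hN⟩ := cf.exists_pair
  set A := C.subgroupOf K with hAdef
  have hAmap : A.map K.subtype = C := map_subgroupOf_eq_of_le hCK
  let D : Hyp p K (ptor p V) :=
    { T := Q
      M := M
      coatom := hM
      le := hQM
      uniq := huniq
      A := A
      AT := hCQ
      nbot := fun h => hC.ne (by rw [← hAmap, h, Subgroup.map_bot])
      faith := fun k hk => Subtype.ext (faithful_ptor cf.hexp cf.faith cf.core (g := (k : Γ)) hk)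
      expN := fun n => Subtype.ext (by
        rw [AddSubmonoidClass.coe_nsmul, ZeroMemClass.coe_zero]; exact mem_ptor.1 n.2)
      ineq := by rw [msr_sub, hAmap]; exact hC.ineq
      strict := fun A0 hA0 h0 hne => by
        rw [msr_sub, msr_sub, hAmap]
        refine hC.strict _ (hAmap ▸ map_mono hA0) (fun e => h0 ?_) fun e => hne ?_
        · exact (map_eq_bot_iff_of_injective _ K.subtype_injective).1 e
        · exact map_injective K.subtype_injective (e.trans hAmap.symm)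
      quad := fun a ha b hb n => hC.quad a ha b hb n
      gen := hgen }
  have hQT : ∀ k ∈ (Q : Subgroup K), ∀ t ∈ T, (k : Γ) • t = t := fun k hk => hQF ⟨k, hk, rfl⟩
  -- a vector fixed by `Q` and moved by `K`
  have hmove : ∃ n, ∃ t ∈ T, p ^ n • t = 0 ∧ ∃ k : K, k • t ≠ t := by
    obtain ⟨k, hk, hkT⟩ := SetLike.not_le_iff_exists.1 hKF
    have hkT' : ∃ t ∈ T, k • t ≠ t := by
      by_contra hno
      push Not at hno
      exact hkT hno
    obtain ⟨t, ht, hne⟩ := hkT'
    obtain ⟨n, hn⟩ := cf.hexp t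
    exact ⟨n, t, ht, hn, ⟨k, hk⟩, hne⟩
  obtain ⟨n0, hn0, hmin⟩ : ∃ n, (∃ t ∈ T, p ^ n • t = 0 ∧ ∃ k : K, k • t ≠ t) ∧
      ∀ m < n, ¬ ∃ t ∈ T, p ^ m • t = 0 ∧ ∃ k : K, k • t ≠ t :=
    ⟨Nat.find hmove, Nat.find_spec hmove, fun m hm => Nat.find_min hmove hm⟩
  obtain ⟨t0, ht0, hn0', hk0⟩ := hn0
  have hpt : ∀ k : K, k • (p • t0) = p • t0 := by
    rcases n0 with _ | m
    · rw [pow_zero, one_nsmul] at hn0'
      intro k; rw [hn0', smul_zero, smul_zero]
    · intro k
      by_contra hne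
      refine hmin m (Nat.lt_succ_self m) ⟨p • t0, T.nsmul_mem ht0 p, ?_, k, hne⟩
      rw [← mul_nsmul', ← pow_succ, hn0']
  obtain ⟨v0, hv0Q, hv0⟩ := exists_ptor_fixed Q (fun k hk => hQT k hk t0 ht0) hpt hk0
  obtain ⟨F, _, _, hcard, ρ, ψ, hρ, -, hker, heq, -⟩ := D.natural ⟨v0, hv0Q, hv0⟩
  set e := ψ v0 with hedef
  have he : e ≠ 0 := fun h => hv0 (D.mem_C.1 ((hker v0).1 h))
  obtain ⟨P, hP⟩ := exists_first_col he
  have hAfix : ∀ a ∈ A, (ρ a).1.mulVec e = e := fun a ha => by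
    rw [hedef, ← heq, hv0Q a (hCQ ha)]
  have hpF : (p : F) = 0 := by
    have h1 : p • e = 0 := by rw [hedef, ← map_nsmul, D.expN, map_zero]
    obtain ⟨i, hi⟩ : ∃ i, e i ≠ 0 := by
      by_contra hno
      push Not at hno
      exact he (funext hno)
    have h2 := congrFun h1 i
    rw [Pi.smul_apply, Pi.zero_apply, nsmul_eq_mul] at h2
    exact (mul_eq_zero.1 h2).resolve_right hi
  obtain ⟨c0, hc0⟩ := hp.out.odd_of_ne_two hp2
  have h2F : (2 : F) ≠ 0 := fun h => by
    rw [hc0, Nat.cast_add, Nat.cast_mul, Nat.cast_ofNat, h, zero_mul, zero_add, Nat.cast_one] at hpF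
    exact one_ne_zero hpF
  -- the unipotent subgroup
  have hP' : (P⁻¹).1.mulVec e = ![1, 0] := by
    rw [← hP, Matrix.mulVec_mulVec, ← Matrix.SpecialLinearGroup.coe_mul, inv_mul_cancel,
      Matrix.SpecialLinearGroup.coe_one, Matrix.one_mulVec]
  have hAu : ∀ a ∈ A, P⁻¹ * ρ a * P = uni ((P⁻¹ * ρ a * P).1 0 1) := fun a ha => eq_uni (by
    rw [Matrix.SpecialLinearGroup.coe_mul, Matrix.SpecialLinearGroup.coe_mul,
      ← Matrix.mulVec_mulVec, hP, ← Matrix.mulVec_mulVec, hAfix a ha, hP'])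
  have hsurj : ∀ x : F, ∃ a ∈ A, ρ a = P * uni x * P⁻¹ := by
    let g : A → F := fun a => (P⁻¹ * ρ a * P).1 0 1
    have hinj : Function.Injective g := fun a b hab => Subtype.ext (hρ.1 (by
      have h1 : P⁻¹ * ρ a * P = P⁻¹ * ρ b * P := (hAu a a.2).trans (by
        rw [hAu b b.2]; exact congrArg uni hab)
      exact mul_left_cancel (mul_right_cancel h1)))
    have hbij : Function.Bijective g :=
      (Nat.bijective_iff_injective_and_card g).2 ⟨hinj, by rw [Nat.card_eq_fintype_card (α := F), hcard]⟩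
    intro x
    obtain ⟨a, ha⟩ := hbij.2 x
    refine ⟨a, a.2, ?_⟩
    rw [← ha, ← hAu a a.2]
    group
  have hAmem : ∀ x : F, ∀ k : K, ρ k = P * uni x * P⁻¹ → k ∈ A := fun x k hk => by
    obtain ⟨a, ha, hae⟩ := hsurj x
    exact hρ.1 (hk.trans hae.symm) ▸ ha
  -- the torus
  obtain ⟨μ, hμ⟩ := IsCyclic.exists_generator (α := Fˣ)
  obtain ⟨h, hh⟩ := hρ.2 (P * diag μ * P⁻¹)
  have hhC : (h : Γ) ∈ normalizer (C : Set Γ) := by
    refine mem_normalizer_iff_map_conj_eq.2 (eq_of_le_of_card_ge ?_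
      (card_map_of_injective (MulAut.conj (h : Γ)).injective).ge)
    rintro _ ⟨c, hc, rfl⟩
    have h2 := hAu ⟨c, hCK hc⟩ hc
    refine hAmem ((μ : F) * μ * (P⁻¹ * ρ ⟨c, hCK hc⟩ * P).1 0 1) (h * ⟨c, hCK hc⟩ * h⁻¹) ?_
    rw [← diag_uni, ← h2, map_mul, map_mul, map_inv, hh]
    group
  have hhT : (h : Γ) ∈ stabT T := hN _ h.2 hhC
  have hhpow : ∀ i : ℕ, ρ (h ^ i) = P * diag (μ ^ i) * P⁻¹ := fun i => by
    rw [map_pow, hh, map_pow, conj_pow]
  have hcop : (orderOf (h : Γ)).Coprime p := by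
    have h1 : h ^ (Fintype.card F - 1) = 1 := hρ.1 (by
      rw [hhpow, ← Fintype.card_units, pow_card_eq_one, map_one, map_one, mul_one, mul_inv_cancel])
    have h2 : orderOf (h : Γ) ∣ Fintype.card F - 1 := orderOf_dvd_of_pow_eq_one (by
      rw [← SubgroupClass.coe_pow, h1, OneMemClass.coe_one])
    refine ((Nat.Prime.coprime_iff_not_dvd hp.out).2 fun hd => ?_).symm
    have hpq : p ∣ Fintype.card F := by
      rw [hcard]
      obtain ⟨⟨a, ha⟩, ha1⟩ := Subgroup.ne_bot_iff_exists_ne_one.1 D.nbot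
      have h3 : (⟨a, ha⟩ : A) ^ p = 1 :=
        Subtype.ext (Subtype.ext (hC.elem _ (show (a : Γ) ∈ C from ha)))
      have h5 := orderOf_dvd_natCard (G := A) ⟨a, ha⟩
      rwa [orderOf_eq_prime h3 ha1] at h5
    have h4 : p ∣ Fintype.card F - (Fintype.card F - 1) := Nat.dvd_sub hpq (hd.trans h2)
    rw [Nat.sub_sub_self Fintype.card_pos] at h4
    exact hp.out.not_dvd_one h4
  -- the central involution
  obtain ⟨i0, hi0⟩ := (Submonoid.mem_powers_iff _ _).1 (mem_powers_iff_mem_zpowers.2 (hμ (-1)))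
  set z := h ^ i0 with hzdef
  have hz : ∀ u, (ρ z).1.mulVec u = -u := fun u => by
    rw [hhpow, hi0]
    have e1 : (diag (-1 : Fˣ)).1 = -1 := by
      rw [diag_coe]
      exact Matrix.ext fun i j => by fin_cases i <;> fin_cases j <;> simp
    rw [Matrix.SpecialLinearGroup.coe_mul, Matrix.SpecialLinearGroup.coe_mul, e1,
      ← Matrix.mulVec_mulVec, ← Matrix.mulVec_mulVec, Matrix.neg_mulVec, Matrix.one_mulVec,
      Matrix.mulVec_neg, Matrix.mulVec_mulVec, ← Matrix.SpecialLinearGroup.coe_mul, mul_inv_cancel,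
      Matrix.SpecialLinearGroup.coe_one, Matrix.one_mulVec]
  have hzc : ∀ k : K, z * k = k * z := fun k => hρ.1 (Subtype.ext (by
    rw [map_mul, map_mul, Matrix.SpecialLinearGroup.coe_mul, Matrix.SpecialLinearGroup.coe_mul]
    refine Matrix.ext_iff_mulVec.2 fun u => ?_
    rw [← Matrix.mulVec_mulVec, ← Matrix.mulVec_mulVec, hz, hz, Matrix.mulVec_neg]))
  have hz2 : z * z = 1 := hρ.1 (Subtype.ext (by
    rw [map_mul, map_one, Matrix.SpecialLinearGroup.coe_mul, Matrix.SpecialLinearGroup.coe_one]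
    refine Matrix.ext_iff_mulVec.2 fun u => ?_
    rw [← Matrix.mulVec_mulVec, hz, hz, neg_neg, Matrix.one_mulVec]))
  have hzk : ∀ (k : K) (v : V), z • k • v = k • z • v := fun k v => by
    rw [← mul_smul, ← mul_smul, hzc]
  have hzT : (z : Γ) ∈ stabT T := by
    rw [hzdef, SubgroupClass.coe_pow]; exact pow_mem hhT i0
  -- the two eigenspaces on the elements of order `p`
  have hinj : ∀ n : ptor p V, z • n = -n → ψ n = 0 → n = 0 := fun n hn h0 => by
    have h1 := D.mem_C.1 ((hker n).1 h0) z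
    rw [hn] at h1
    have h2 : (2 : ℕ) • (n : V) = 0 := by
      have h3 := congrArg Subtype.val h1
      rw [NegMemClass.coe_neg] at h3
      rw [two_nsmul]
      nth_rewrite 1 [← h3]
      rw [neg_add_cancel]
    exact Subtype.ext (eq_zero_of_coprime
      ((Nat.coprime_primes Nat.prime_two hp.out).2 (Ne.symm hp2)) h2 (mem_ptor.1 n.2))
  have hfix : ∀ n : ptor p V, z • n = n → ∀ k : K, k • n = n := fun n hn => by
    have h1 := heq z n
    rw [hn, hz] at h1
    refine D.mem_C.1 ((hker n).1 (funext fun i => ?_))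
    have h2 := congrFun h1 i
    rw [Pi.neg_apply, eq_neg_iff_add_eq_zero, ← two_mul] at h2
    exact (mul_eq_zero.1 h2).resolve_left h2F
  have hCT : ∀ a ∈ A, ∀ t ∈ T, a • t = t := fun a ha => hQT a (hCQ ha)
  obtain ⟨x1, hx1⟩ : ∃ x, x ∉ M := by
    by_contra hno
    push Not at hno
    exact hM.1 (eq_top_iff.2 fun g _ => hno g)
  have hKfix : ∀ (n : ℕ) (t : V), p ^ n • t = 0 → t ∈ T → z • t = t → ∀ k : K, k • t = t := by
    intro n
    induction n with
    | zero =>
      intro t ht _ _ k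
      rw [pow_zero, one_nsmul] at ht
      rw [ht, smul_zero]
    | succ n ih =>
      intro t ht htT hzt
      have hd : ∀ k : K, ∀ g : K, g • (k • t - t) = k • t - t := fun k g => by
        have h1 : p • (k • t - t) = 0 := by
          rw [nsmul_sub, ← nsmul_smul', ih (p • t) (by rw [← mul_nsmul', ← pow_succ, ht])
            (T.nsmul_mem htT p) (by rw [nsmul_smul', hzt]), sub_self]
        exact congrArg Subtype.val (hfix ⟨_, mem_ptor.2 h1⟩ (Subtype.ext (by
          show z • (k • t - t) = k • t - t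
          rw [smul_sub, hzk, hzt])) g)
      intro k
      have htop : (⊤ : Subgroup K) ≤ MulAction.stabilizer K t := by
        rw [← hgen x1 hx1, sup_le_iff]
        refine ⟨fun a ha => hCT a ha t htT, ?_⟩
        rintro _ ⟨a, ha, rfl⟩
        show (x1 * a * x1⁻¹) • t = t
        rw [mul_smul, mul_smul, show x1⁻¹ • t = t + (x1⁻¹ • t - t) by abel, smul_add,
          hCT a ha t htT, hd x1⁻¹ a, show t + (x1⁻¹ • t - t) = x1⁻¹ • t by abel, smul_inv_smul]
      exact htop (mem_top k)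
  -- the part inverted by `z`
  let T0 : AddSubgroup V :=
    { carrier := {t | t ∈ T ∧ z • t = -t}
      zero_mem' := ⟨T.zero_mem, by rw [smul_zero, neg_zero]⟩
      add_mem' := fun {a b} ha hb => ⟨T.add_mem ha.1 hb.1, by rw [smul_add, ha.2, hb.2, neg_add]⟩
      neg_mem' := fun {a} ha => ⟨T.neg_mem ha.1, by rw [smul_neg, ha.2]⟩ }
  have hT0 : ∀ t : V, t ∈ T0 ↔ t ∈ T ∧ z • t = -t := fun t => Iff.rfl
  have hhT0 : ∀ (i : ℕ), ∀ t ∈ T0, (h ^ i) • t ∈ T0 := fun i t ht => by
    rw [hT0] at ht ⊢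
    refine ⟨?_, by rw [hzk, ht.2, smul_neg]⟩
    show ((h ^ i : K) : Γ) • t ∈ T
    rw [SubgroupClass.coe_pow]
    exact (pow_mem hhT i).1 t ht.1
  have htrans : ∀ m n : ptor p V, z • m = -m → z • n = -n → (∀ a ∈ A, a • m = m) →
      (∀ a ∈ A, a • n = n) → m ≠ 0 → n ≠ 0 → ∃ i : ℕ, h ^ i • m = n := by
    have hline : ∀ n : ptor p V, (∀ a ∈ A, a • n = n) → ∃ c : F, ψ n = P.1.mulVec ![c, 0] := by
      intro n hn
      obtain ⟨a, ha, hae⟩ := hsurj 1
      refine fixed_line ?_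
      rw [← hae, ← heq, hn a ha]
    intro m n hm hn hmA hnA hm0 hn0
    obtain ⟨c, hc⟩ := hline m hmA
    obtain ⟨d, hd⟩ := hline n hnA
    have hc0 : c ≠ 0 := fun e' => hm0 (hinj m hm (by rw [hc, e']; simp))
    have hd0 : d ≠ 0 := fun e' => hn0 (hinj n hn (by rw [hd, e']; simp))
    obtain ⟨i, hi⟩ := (Submonoid.mem_powers_iff _ _).1
      (mem_powers_iff_mem_zpowers.2 (hμ (Units.mk0 (d / c) (div_ne_zero hd0 hc0))))
    refine ⟨i, sub_eq_zero.1 (hinj _ ?_ ?_)⟩
    · rw [smul_sub, ← mul_smul, hzc, mul_smul, hm, hn, smul_neg, neg_sub, sub_neg_eq_add,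
        neg_add_eq_sub]
    · rw [map_sub, heq, hhpow, hi, hc, hd, conj_mulVec', ← Matrix.mulVec_sub]
      have e2 : (diag (Units.mk0 (d / c) (div_ne_zero hd0 hc0))).1.mulVec ![c, 0] - ![d, 0] = 0 := by
        rw [diag_coe]
        funext j
        fin_cases j <;> simp [mul_div_cancel₀ d hc0]
      rw [e2, Matrix.mulVec_zero]
  -- elements of `T0` have order `p`
  have hexp0 : ∀ t ∈ T0, p • t = 0 := by
    intro t ht
    by_contra hne
    obtain ⟨n, hn⟩ := cf.hexp t
    have hex : ∃ m, p ^ m • t = 0 := ⟨n, hn⟩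
    obtain ⟨m, hm, hmmin⟩ : ∃ m, p ^ m • t = 0 ∧ ∀ j < m, p ^ j • t ≠ 0 :=
      ⟨Nat.find hex, Nat.find_spec hex, fun j hj => Nat.find_min hex hj⟩
    obtain ⟨l, rfl⟩ : ∃ l, m = l + 2 := by
      rcases m with _ | _ | l
      · rw [pow_zero, one_nsmul] at hm; exact absurd (by rw [hm, smul_zero]) hne
      · rw [zero_add, pow_one] at hm; exact absurd hm hne
      · exact ⟨l, rfl⟩
    set y := p ^ l • t with hy
    have hyT : y ∈ T0 := T0.nsmul_mem ht _
    have hpy : p • y ≠ 0 := by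
      rw [hy, ← mul_nsmul', ← pow_succ']; exact hmmin _ (by omega)
    have hppy : p • (p • y) = 0 := by
      rw [hy, ← mul_nsmul', ← mul_nsmul', mul_assoc, ← pow_succ', ← pow_succ']; exact hm
    clear_value y
    set w : ptor p V := ⟨p • y, mem_ptor.2 hppy⟩ with hw
    have hwz : z • w = -w := Subtype.ext (by
      show z • (p • y) = -(p • y)
      rw [nsmul_smul', ((hT0 y).1 hyT).2, neg_nsmul])
    have hwA : ∀ a ∈ A, a • w = w := fun a ha => Subtype.ext
      (hCT a ha _ (T.nsmul_mem ((hT0 y).1 hyT).1 p))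
    have hw0 : w ≠ 0 := fun e' => hpy (congrArg Subtype.val e')
    obtain ⟨a, ha, hae⟩ := hsurj 1
    obtain ⟨x, hx⟩ := hρ.2 (P * weyl * P⁻¹)
    set y' := x • y with hy'
    set d := a • y' - y' with hd
    set l := a • (x • w) - x • w with hl
    have hlz : z • l = -l := by
      have h1 : z • (x • w) = -(x • w) := by rw [← mul_smul, hzc, mul_smul, hwz, smul_neg]
      rw [hl, smul_sub, ← mul_smul, hzc, mul_smul, h1, smul_neg, neg_sub, sub_neg_eq_add,
        neg_add_eq_sub]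
    have hlA : ∀ b ∈ A, b • l = l := fun b hb => D.quad a ha b hb _
    have hl0 : l ≠ 0 := by
      intro e'
      obtain ⟨c, hc, hcne⟩ : ∃ c, ψ w = P.1.mulVec ![c, 0] ∧ c ≠ 0 := by
        obtain ⟨c, hc⟩ := fixed_line (P := P) (u := ψ w) (by rw [← hae, ← heq, hwA a ha])
        exact ⟨c, hc, fun e0 => hw0 (hinj w hwz (by rw [hc, e0]; simp))⟩
      have h1 : ψ l = 0 := by rw [e', map_zero]
      rw [hl, map_sub, heq, heq, hae, hx, hc, conj_mulVec', conj_mulVec', ← Matrix.mulVec_sub] at h1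
      have h2 := congrArg (fun u => (P⁻¹).1.mulVec u) h1
      simp only [inv_mulVec', Matrix.mulVec_zero] at h2
      have h3 := congrFun h2 0
      simp [uni, weyl, Matrix.mulVec, dotProduct] at h3
      exact hcne h3
    obtain ⟨i, hi⟩ := htrans w l hwz hlz hwA hlA hw0 hl0
    set d1 := h ^ i • y with hd1
    have hd1A : a • d1 = d1 := hCT a ha _ (hhT0 i y hyT).1
    have hpd : p • d = (l : V) := by
      show p • (a • x • y - x • y) = a • x • (p • y) - x • (p • y)
      simp only [nsmul_sub, nsmul_smul']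
    have hr : p • (d - d1) = 0 := by
      rw [nsmul_sub, hpd, ← hi, hd1]
      show h ^ i • (p • y) - p • (h ^ i • y) = 0
      rw [nsmul_smul', sub_self]
    set r : ptor p V := ⟨d - d1, mem_ptor.2 hr⟩ with hrdef
    have he1 : a • d = d + ((a • r - r : ptor p V) : V) := by
      rw [AddSubgroupClass.coe_sub, coe_smul]
      show a • d = d + (a • (d - d1) - (d - d1))
      rw [smul_sub a d d1, hd1A]
      abel
    have he2 : a • ((a • r - r : ptor p V) : V) = ((a • r - r : ptor p V) : V) :=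
      congrArg Subtype.val (D.quad a ha a ha r)
    have h1 := pow_smul_quad (a := (a : Γ)) (show a • y' = y' + d by rw [hd]; abel) he1 he2 p
    rw [show (a : Γ) ^ p = 1 from hC.elem _ (show (a : Γ) ∈ C from ha), one_smul, add_assoc,
      left_eq_add] at h1
    obtain ⟨cc, hcc⟩ := hp.out.dvd_choose_self (show 2 ≠ 0 by norm_num)
      (lt_of_le_of_ne hp.out.two_le (Ne.symm hp2))
    rw [hcc, mul_nsmul, mem_ptor.1 (a • r - r : ptor p V).2, smul_zero, add_zero, hpd] at h1
    exact hl0 (Subtype.ext h1)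
  have hhz : ∀ t ∈ T, (h : Γ) • t = t → z • t = t := fun t _ ht => by
    show ((z : K) : Γ) • t = t
    rw [hzdef, SubgroupClass.coe_pow]
    exact MulAction.mem_stabilizer_iff.1
      (pow_mem (MulAction.mem_stabilizer_iff.2 ht) i0)
  refine ⟨h, hhT, hcop, ?_, T0, ?_, fun a ha b hb ha0 hb0 => ?_⟩
  · by_contra hno
    push Not at hno
    obtain ⟨k, hk⟩ := hk0
    exact hk (hKfix n0 t0 hn0' ht0 (hhz t0 ht0 (hno t0 ht0)) k)
  · intro t ht
    obtain ⟨N, hN'⟩ := cf.hexp t
    obtain ⟨c, hc⟩ := (hp.out.odd_of_ne_two hp2).pow (n := N)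
    have hzt : z • t ∈ T := hzT.1 t ht
    have hw : (c + 1) • (t - z • t) ∈ T0 := by
      refine (hT0 _).2 ⟨T.nsmul_mem (T.sub_mem ht hzt) _, ?_⟩
      rw [nsmul_smul', smul_sub, ← mul_smul, hz2, one_smul, ← neg_nsmul, neg_sub]
    have huz : z • ((c + 1) • (t + z • t)) = (c + 1) • (t + z • t) := by
      rw [nsmul_smul', smul_add, ← mul_smul, hz2, one_smul, add_comm (z • t) t]
    have hu : h • ((c + 1) • (t + z • t)) = (c + 1) • (t + z • t) := by
      have hT1 : (c + 1) • (t + z • t) ∈ T := T.nsmul_mem (T.add_mem ht hzt) _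
      obtain ⟨N', hN''⟩ := cf.hexp ((c + 1) • (t + z • t))
      exact hKfix N' _ hN'' hT1 huz h
    have hsplit : (c + 1) • (t + z • t) + (c + 1) • (t - z • t) = t := by
      rw [← nsmul_add, show t + z • t + (t - z • t) = 2 • t by abel, ← mul_nsmul',
        show (c + 1) * 2 = p ^ N + 1 by rw [hc]; ring, succ_nsmul, hN', zero_add]
    have hgoal : h • t - t = h • ((c + 1) • (t - z • t)) - (c + 1) • (t - z • t) := by
      conv_lhs => rw [← hsplit]
      rw [smul_add, hu]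
      abel
    show h • t - t ∈ T0
    rw [hgoal]
    refine T0.sub_mem ?_ hw
    have := hhT0 1 _ hw
    rwa [pow_one] at this
  · obtain ⟨haT, haz⟩ := (hT0 a).1 ha
    obtain ⟨hbT, hbz⟩ := (hT0 b).1 hb
    obtain ⟨i, hi⟩ := htrans ⟨a, mem_ptor.2 (hexp0 a ha)⟩ ⟨b, mem_ptor.2 (hexp0 b hb)⟩
      (Subtype.ext haz) (Subtype.ext hbz) (fun k hk => Subtype.ext (hCT k hk a haT))
      (fun k hk => Subtype.ext (hCT k hk b hbT)) (fun e' => ha0 (congrArg Subtype.val e'))
      (fun e' => hb0 (congrArg Subtype.val e'))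
    refine ⟨i, ?_⟩
    have h1 : ((h ^ i : K) : Γ) • a = b := congrArg Subtype.val hi
    rwa [SubgroupClass.coe_pow] at h1

end CfsgLib.WeakCentral
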